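import Groth.Agent.ParaFLib.FlatDescent

/-! A generator over the punctured spectrum of a local ring spreads out to a neighbourhood. -/

set_option autoImplicit false
set_option linter.style.haveILetI false
universe u

open CategoryTheory AlgebraicGeometry TopologicalSpace Opposite
open AmpleLib (res GenOn GenAt)
open ParaFLib (chi mem_basicOpen_chi app_chi InvOn)

noncomputable section

namespace PicLiftLib

section Basic

variable (A : Type u) [CommRing A] [IsNoetherianRing A] {D : (Spec (CommRingCat.of A)).Opens} {a : A}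
  (hD : ∀ q : Spec (CommRingCat.of A), q ∈ D ↔ a ∉ q.asIdeal)

omit [IsNoetherianRing A] in
theorem isUnit_chi {D : (Spec (CommRingCat.of A)).Opens} {a : A}
    (h : ∀ q ∈ D, a ∉ q.asIdeal) : IsUnit (chi A D a) := by
  refine (Spec (CommRingCat.of A)).toLocallyRingedSpace.toRingedSpace.isUnit_of_isUnit_germ D _ fun q hq => ?_
  exact (Scheme.mem_basicOpen _ _ _ hq).1 ((mem_basicOpen_chi A).2 ⟨hq, h q hq⟩)

include hD in
theorem exists_chi_mul_eq (c : Γ(Spec (CommRingCat.of A), D)) :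
    ∃ (k : ℕ) (x : A), chi A D a ^ k * c = chi A D x := by
  obtain rfl : D = (Spec (CommRingCat.of A)).basicOpen (chi A ⊤ a) :=
    Opens.ext (Set.ext fun q => (hD q).trans ((mem_basicOpen_chi A (U := ⊤)).trans (and_iff_right trivial)).symm)
  haveI : Coh.IsQCoh (Coh.structureModule (Spec (CommRingCat.of A))) :=
    TwistLib.isQCoh_of_isInvertible fun q => ⟨⊤, trivial,
      ⟨(Scheme.Modules.restrictFunctorIsoPullback _).app _ ≪≫ KFlatLib.pullUnitIso _⟩⟩
  haveI : IsNoetherianRing (CommRingCat.of A) := inferInstanceAs (IsNoetherianRing A)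
  haveI : NoetherianSpace (Spec (CommRingCat.of A)) := inferInstanceAs (NoetherianSpace (PrimeSpectrum A))
  obtain ⟨k, b, hb⟩ := (QCohLib.localizingAt_of_qcqs (Coh.structureModule (Spec (CommRingCat.of A)))
    (W := ⊤) (NoetherianSpace.isCompact _) (fun _ _ _ _ _ _ _ _ => NoetherianSpace.isCompact _)
    (chi A ⊤ a)).exists_extend c
  obtain ⟨x, rfl⟩ : ∃ x, chi A ⊤ x = b :=
    ⟨(Scheme.ΓSpecIso (CommRingCat.of A)).hom b, by
      show (Spec (CommRingCat.of A)).presheaf.map (homOfLE (le_refl (⊤ : (Spec (CommRingCat.of A)).Opens))).op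
        ((Scheme.ΓSpecIso (CommRingCat.of A)).inv ((Scheme.ΓSpecIso (CommRingCat.of A)).hom b)) = b
      rw [Iso.hom_inv_id_apply]
      exact AmpleLib.res_refl (Coh.structureModule (Spec (CommRingCat.of A))) b⟩
  refine ⟨k, x, ?_⟩
  have h1 : ∀ y : A, (Spec (CommRingCat.of A)).presheaf.map
      (homOfLE ((Spec (CommRingCat.of A)).basicOpen_le (chi A ⊤ a))).op (chi A ⊤ y) = chi A _ y := fun y =>
    AmpleLib.res_res (Coh.structureModule (Spec (CommRingCat.of A))) _ _ _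
  rw [← h1 a, ← map_pow, ← h1 x]
  exact ((congrArg (· * c) (map_pow _ _ k)).trans hb.symm)

include hD in
theorem exists_pow_mul_eq_zero {x : A} (h : chi A D x = 0) : ∃ l : ℕ, a ^ l * x = 0 := by
  have hmem : a ∈ (Submodule.colon (⊥ : Ideal A) (Ideal.span {x} : Ideal A)).radical := by
    rw [Ideal.radical_eq_sInf, Ideal.mem_sInf]
    rintro P ⟨hP, hPp⟩
    by_contra haP
    obtain ⟨u, hu, hux⟩ := ParaFLib.exists_zero_of_toStalk A (q := (⟨P, hPp⟩ : PrimeSpectrum A)) (a := x) (by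
      rw [← ParaFLib.germ_chi A ((hD _).2 haP), h, map_zero]
      rfl)
    refine hu (hP (Submodule.mem_colon.2 fun y hy => ?_))
    obtain ⟨c, rfl⟩ := Ideal.mem_span_singleton'.1 hy
    rw [Submodule.mem_bot, smul_eq_mul, mul_left_comm, hux, mul_zero]
  obtain ⟨l, hl⟩ := hmem
  exact ⟨l, by simpa using (Submodule.mem_colon.1 hl) x (Ideal.mem_span_singleton_self x)⟩

end Basic

variable (A : Type u) [CommRing A] [IsNoetherianRing A]

omit [IsNoetherianRing A] in
theorem res_chi {U V : (Spec (CommRingCat.of A)).Opens} (h : V ≤ U) (x : A) :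
    (Spec (CommRingCat.of A)).presheaf.map (homOfLE h).op (chi A U x) = chi A V x :=
  AmpleLib.res_res (Coh.structureModule (Spec (CommRingCat.of A))) _ _ _

theorem puSec_res' {X Y : Scheme.{u}} (g : Y ⟶ X) {M : X.Modules} {U V : X.Opens} (h : V ≤ U) (a : Γ(M, U)) :
    KFlatLib.puSec g (res M h a) = res (KFlatLib.pb g M) (g.preimage_mono h) (KFlatLib.puSec g a) :=
  QCohLib.app_map ((Scheme.Modules.pullbackPushforwardAdjunction g).unit.app M) (homOfLE h) a

/-- Spreading out a generator. -/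
theorem exists_gen_nhd (q : Spec (CommRingCat.of A)) (G : (Spec (CommRingCat.of A)).Modules)
    (V W : (Spec (CommRingCat.of A)).Opens) (hqW : q ∈ W) (hqV : q ∉ V)
    (hW : ∀ x ∈ W, x ≠ q → x ∈ V) (hG : InvOn G V)
    (hσ : ∃ σ : Γ(KFlatLib.pb (Spec.map (CommRingCat.ofHom (algebraMap A (Localization.AtPrime q.asIdeal)))) G,
      Spec.map (CommRingCat.ofHom (algebraMap A (Localization.AtPrime q.asIdeal))) ⁻¹ᵁ V), GenOn _ σ) :
    ∃ (O : (Spec (CommRingCat.of A)).Opens), q ∈ O ∧ O ≤ W ∧ ∃ τ : Γ(G, O ⊓ V), GenOn G τ := by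
  classical
  obtain ⟨σ, hσ⟩ := hσ
  let B := Localization.AtPrime q.asIdeal
  haveI : IsNoetherianRing B := IsLocalization.isNoetherianRing q.asIdeal.primeCompl B inferInstance
  let φ := algebraMap A B
  let X := Spec (CommRingCat.of A)
  let Y := Spec (CommRingCat.of B)
  let g : Y ⟶ X := Spec.map (CommRingCat.ofHom φ)
  let G' := KFlatLib.pb g G
  haveI : IsNoetherianRing (CommRingCat.of A) := inferInstanceAs (IsNoetherianRing A)
  haveI : NoetherianSpace X := inferInstanceAs (NoetherianSpace (PrimeSpectrum A))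
  have hbas : ∀ x : V, ∃ (a : A) (D : X.Opens), x.1 ∈ D ∧ D ≤ V ∧ (∀ p, p ∈ D ↔ a ∉ p.asIdeal) ∧
      ∃ s : Γ(G, D), GenOn G s := fun x => by
    obtain ⟨O, hxO, hOV, s, hs⟩ := hG x.1 x.2
    obtain ⟨_, ⟨a, rfl⟩, hxa, ha⟩ :=
      (Opens.isBasis_iff_nbhd.mp PrimeSpectrum.isBasis_basic_opens) (show x.1 ∈ O from hxO)
    exact ⟨a, PrimeSpectrum.basicOpen a, hxa, ha.trans hOV, fun p => Iff.rfl, _, hs.res ha⟩
  choose a D hxD hDV hD s hs using hbas
  obtain ⟨t, ht⟩ := (NoetherianSpace.isCompact (V : Set X)).elim_finite_subcover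
    (fun x : V => (D x : Set X)) (fun x => (D x).2) fun x hx => Set.mem_iUnion.2 ⟨⟨x, hx⟩, hxD ⟨x, hx⟩⟩
  have hcov : ∀ x ∈ V, ∃ i : t, x ∈ D i.1 := fun x hx => by
    obtain ⟨i, hi, hxi⟩ := Set.mem_iUnion₂.1 (ht hx)
    exact ⟨⟨i, hi⟩, hxi⟩
  have hD' : ∀ i p, p ∈ g ⁻¹ᵁ D i ↔ φ (a i) ∉ p.asIdeal := fun i p => hD i (g p)
  have hs' : ∀ i, GenOn G' (KFlatLib.puSec g (s i)) := fun i =>
    TwistLib.genOn_of_genAt fun z hz => TwistLib.GenAt.puSec g (hx := hz) ((hs i).genAt hz)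
  have hu : ∀ i, ∃ u : Γ(Y, g ⁻¹ᵁ D i),
      u • KFlatLib.puSec g (s i) = res G' (g.preimage_mono (hDV i)) σ := fun i => by
    obtain ⟨u, hu⟩ := (hs' i _ le_rfl).2 (res G' (g.preimage_mono (hDV i)) σ)
    exact ⟨u, by simpa only [AmpleLib.res_refl] using hu⟩
  choose u hu using hu
  have hxy : ∀ i, ∃ (k : ℕ) (x e : A), e ∉ q.asIdeal ∧
      chi B (g ⁻¹ᵁ D i) (φ (e * a i ^ k)) * u i = chi B (g ⁻¹ᵁ D i) (φ x) := fun i => by
    obtain ⟨k, y, hy⟩ := exists_chi_mul_eq B (hD' i) (u i)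
    obtain ⟨⟨x, e, he⟩, hx⟩ := IsLocalization.surj q.asIdeal.primeCompl y
    refine ⟨k, x, e, he, ?_⟩
    rw [← show y * φ e = φ x from hx, map_mul, map_mul, map_mul, map_pow, map_pow, ← hy]
    ring
  choose k x e he hxy using hxy
  choose v hv using fun i => (isUnit_chi A (a := a i ^ k i)
    (fun p hp h => (hD i p).1 hp (p.isPrime.mem_of_pow_mem _ h))).exists_left_inv
  let S : A := ∏ i : t, e i.1
  have hS : S ∉ q.asIdeal := fun h => by
    obtain ⟨i, -, hi⟩ := Ideal.IsPrime.prod_mem_iff.1 h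
    exact he _ hi
  let S' : t → A := fun i => ∏ j ∈ Finset.univ.erase i, e j.1
  have hS' : ∀ i, e i.1 * S' i = S := fun i => Finset.mul_prod_erase Finset.univ (fun j : t => e j.1) (Finset.mem_univ i)
  obtain ⟨τ, hτdef⟩ : ∃ τ : ∀ i : t, Γ(G, D i.1), τ = fun i => (v i.1 * chi A (D i.1) (x i.1 * S' i)) • s i.1 :=
    ⟨_, rfl⟩
  have hτ : ∀ i : t, KFlatLib.puSec g (τ i) =
      chi B (g ⁻¹ᵁ D i.1) (φ S) • res G' (g.preimage_mono (hDV i.1)) σ := fun i => by
    rw [hτdef, ← hu, smul_smul, KFlatLib.puSec_smul, map_mul, app_chi A B φ]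
    refine congrArg (· • _) ?_
    have h1 : g.app (D i.1) (v i.1) * chi B (g ⁻¹ᵁ D i.1) (φ (a i.1 ^ k i.1)) = 1 := by
      rw [← app_chi A B φ, ← map_mul, hv, map_one]
    rw [map_mul φ, map_mul, ← hxy, ← hS', map_mul φ, map_mul, map_mul φ, map_mul]
    linear_combination (chi B (g ⁻¹ᵁ D i.1) (φ (e i.1)) * chi B (g ⁻¹ᵁ D i.1) (φ (S' i)) * u i.1) * h1
  have hdiff : ∀ i j : t, ∃ w : A, w ∉ q.asIdeal ∧
      chi A (D i.1 ⊓ D j.1) w • res G (inf_le_left : D i.1 ⊓ D j.1 ≤ D i.1) (τ i) =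
        chi A (D i.1 ⊓ D j.1) w • res G (inf_le_right : D i.1 ⊓ D j.1 ≤ D j.1) (τ j) := by
    intro i j
    let T := D i.1 ⊓ D j.1
    have hT : ∀ p, p ∈ T ↔ a i.1 * a j.1 ∉ p.asIdeal := fun p => by
      refine ((hD i.1 p).and (hD j.1 p)).trans ?_
      rw [p.isPrime.mul_mem_iff_mem_or_mem, not_or]
    have hTV : T ≤ V := inf_le_left.trans (hDV _)
    obtain ⟨c, hc⟩ := (hs i.1 T inf_le_left).2
      (res G (inf_le_left : T ≤ D i.1) (τ i) - res G (inf_le_right : T ≤ D j.1) (τ j))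
    have h0 : g.app T c = 0 := by
      refine (hs' i.1 _ (g.preimage_mono inf_le_left)).1 ?_
      dsimp only at hc ⊢
      rw [zero_smul]
      have h1 := congrArg (KFlatLib.puSec g) hc
      rw [KFlatLib.puSec_smul, show KFlatLib.puSec g (res G (inf_le_left : T ≤ D i.1) (s i.1)) =
        res G' (g.preimage_mono inf_le_left) (KFlatLib.puSec g (s i.1)) from puSec_res' g _ _] at h1
      refine h1.trans (sub_eq_zero.2 ?_ |> fun h => (map_sub
        (((Scheme.Modules.pullbackPushforwardAdjunction g).unit.app G).app T).hom _ _).trans h)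
      show KFlatLib.puSec g (res G _ (τ i)) = KFlatLib.puSec g (res G _ (τ j))
      rw [show KFlatLib.puSec g (res G (inf_le_left : T ≤ D i.1) (τ i)) =
          res G' (g.preimage_mono inf_le_left) (KFlatLib.puSec g (τ i)) from puSec_res' g _ _,
        show KFlatLib.puSec g (res G (inf_le_right : T ≤ D j.1) (τ j)) =
          res G' (g.preimage_mono inf_le_right) (KFlatLib.puSec g (τ j)) from puSec_res' g _ _,
        hτ, hτ, AmpleLib.res_smul, AmpleLib.res_smul, AmpleLib.res_res, AmpleLib.res_res, res_chi, res_chi]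
    obtain ⟨l, y, hy⟩ := exists_chi_mul_eq A hT c
    have hy0 : chi B (g ⁻¹ᵁ T) (φ y) = 0 := by
      rw [← app_chi A B φ, ← hy, map_mul, h0, mul_zero]
    obtain ⟨m, hm⟩ := exists_pow_mul_eq_zero B (D := g ⁻¹ᵁ T) (a := φ (a i.1 * a j.1)) (fun p => hT (g p)) hy0
    rw [← map_pow, ← map_mul] at hm
    obtain ⟨⟨w, hw⟩, hwy⟩ := (IsLocalization.map_eq_zero_iff q.asIdeal.primeCompl B _).1 hm
    refine ⟨w, hw, ?_⟩
    have hcw : chi A T w * c = 0 := by
      refine ((isUnit_chi A (D := T) (a := (a i.1 * a j.1) ^ (m + l))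
        fun p hp h => (hT p).1 hp (p.isPrime.mem_of_pow_mem _ h)).mul_right_eq_zero).1 ?_
      rw [show chi A T ((a i.1 * a j.1) ^ (m + l)) * (chi A T w * c) =
        chi A T w * chi A T ((a i.1 * a j.1) ^ m) * (chi A T (a i.1 * a j.1) ^ l * c) by
          simp only [map_pow, pow_add, map_mul]; ring, hy, ← map_mul, ← map_mul, mul_assoc, hwy, map_zero]
    rw [← sub_eq_zero, ← smul_sub, ← hc, smul_smul, hcw, zero_smul]
  choose w hw hwd using hdiff
  let T0 : A := ∏ p : t × t, w p.1 p.2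
  have hT0 : T0 ∉ q.asIdeal := fun h => by
    obtain ⟨p, -, hp⟩ := Ideal.IsPrime.prod_mem_iff.1 h
    exact hw _ _ hp
  obtain ⟨τ0, hτ0⟩ := ModGlueLib.exists_glue (M := G) (fun i : t => D i.1) (fun i => hDV i.1) hcov
    (fun i => chi A (D i.1) T0 • τ i) fun i j => by
      show res G inf_le_left _ = res G inf_le_right _
      rw [AmpleLib.res_smul, AmpleLib.res_smul, res_chi, res_chi]
      obtain ⟨r, hr⟩ := Finset.dvd_prod_of_mem (fun p : t × t => w p.1 p.2) (Finset.mem_univ (i, j))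
      rw [show T0 = w i j * r from hr, mul_comm, map_mul, mul_smul, mul_smul]
      exact congrArg _ (hwd i j)
  let r : ∀ i : t, Γ(X, D i.1) := fun i => chi A (D i.1) T0 * (v i.1 * chi A (D i.1) (x i.1 * S' i))
  let O' : X.Opens := ⨆ i : t, X.basicOpen (r i)
  have hO'V : O' ≤ V := iSup_le fun i => (X.basicOpen_le _).trans (hDV i.1)
  have hgen : GenOn G (res G hO'V τ0) := TwistLib.genOn_of_genAt fun p hp => by
    obtain ⟨i, hi⟩ := Opens.mem_iSup.1 hp
    have hpD : p ∈ D i.1 := X.basicOpen_le _ hi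
    have h1 : GenAt G (res G (hDV i.1) τ0) hpD := by
      rw [show res G (hDV i.1) τ0 = chi A (D i.1) T0 • τ i from hτ0 i, hτdef, smul_smul,
        AmpleLib.genAt_smul_iff _ _ hpD ((hs i.1).genAt hpD)]
      exact hi
    exact (AmpleLib.genAt_res hO'V τ0 hp).2 ((AmpleLib.genAt_res (hDV i.1) τ0 hpD).1 h1)
  have hrange : ∀ z : Y, g z ∈ V → g z ∈ O' := fun z hz => by
    obtain ⟨i, hi⟩ := hcov (g z) hz
    refine Opens.mem_iSup.2 ⟨i, ?_⟩
    have hunit : ∀ c : A, c ∉ q.asIdeal → φ c ∉ z.asIdeal := fun c hc h =>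
      z.isPrime.ne_top (Ideal.eq_top_of_isUnit_mem _ h (IsLocalization.map_units B (⟨c, hc⟩ : q.asIdeal.primeCompl)))
    have h1 : GenAt G' (KFlatLib.puSec g (chi A (D i.1) T0 • τ i)) (show z ∈ g ⁻¹ᵁ D i.1 from hi) := by
      rw [KFlatLib.puSec_smul, hτ, smul_smul, app_chi A B φ, ← map_mul,
        AmpleLib.genAt_smul_iff _ _ _ ((hσ.res _).genAt _), mem_basicOpen_chi B]
      exact ⟨hi, fun h => (z.isPrime.mem_or_mem h).elim (hunit _ hT0) (hunit _ hS)⟩
    rw [hτdef, smul_smul, KFlatLib.puSec_smul, AmpleLib.genAt_smul_iff _ _ _ ((hs' i.1).genAt _),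
      ← Scheme.preimage_basicOpen] at h1
    exact h1
  obtain ⟨h, hhq, hh⟩ := ParaFLib.exists_nhd_bad (B := ((O' : Set X)ᶜ : Set (PrimeSpectrum A)))
    O'.2.isClosed_compl q fun p hp => by
      intro hpc
      refine hpc ?_
      obtain ⟨z, hz⟩ : p ∈ Set.range (PrimeSpectrum.comap φ) := by
        rw [PrimeSpectrum.localization_comap_range B q.asIdeal.primeCompl]
        exact Set.disjoint_left.2 fun c hc hcp => hc (hp.le hcp)
      have hpW : p ∈ W := ((PrimeSpectrum.le_iff_specializes p q).1 hp.le).mem_open W.2 hqW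
      have hpV : p ∈ V := hW p hpW fun e => hp.ne (e ▸ rfl)
      have hzp : g z = p := hz
      rw [← hzp] at hpV ⊢
      exact hrange z hpV
  refine ⟨PrimeSpectrum.basicOpen h ⊓ W, ⟨hhq, hqW⟩, inf_le_right, ?_⟩
  have hle : (PrimeSpectrum.basicOpen h ⊓ W) ⊓ V ≤ O' := fun p ⟨⟨hph, _⟩, hpV⟩ => by
    by_contra hpO
    exact hqV (((PrimeSpectrum.le_iff_specializes q p).1 (hh p hpO hph)).mem_open V.2 hpV)
  exact ⟨_, hgen.res hle⟩

end PicLiftLib

end
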