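import Groth.Agent.PicLiftLib.Extension
import Groth.Agent.PicLiftLib.Spread
import Groth.Agent.DiscExtLib.Glue
import Groth.Prelude.Def_Formal2
import Groth.Prelude.Def_FEt
import Mathlib.RingTheory.Ideal.KrullsHeightTheorem

/-! Surjectivity of restriction of line bundles to a hypersurface in a punctured spectrum. -/

set_option autoImplicit false
set_option linter.style.haveILetI false
universe u

open CategoryTheory CategoryTheory.Limits AlgebraicGeometry TopologicalSpace Opposite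
open AmpleLib (res GenOn)

noncomputable section

namespace PicLiftLib

variable (A : Type u) [CommRing A] [IsNoetherianRing A] [IsLocalRing A]

omit [IsNoetherianRing A] in
theorem puncturedSpec_eq : FEt.puncturedSpec A = LocCoh.puncturedOpen A (IsLocalRing.maximalIdeal A) := by
  refine Opens.ext (Set.ext fun p => not_congr ?_)
  show p = IsLocalRing.closedPoint A ↔ (IsLocalRing.maximalIdeal A : Set A) ⊆ p.asIdeal
  constructor
  · rintro rfl; exact subset_rfl
  · intro h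
    exact PrimeSpectrum.ext (((IsLocalRing.maximalIdeal.isMaximal A).eq_of_le p.isPrime.ne_top h).symm)

/-- Extension to a neighbourhood. -/
theorem exists_nhd_extension (f : A) [IsAdicComplete (Ideal.span {f}) A]
    (hnzd : f ∈ nonZeroDivisors A)
    (h₁ : Module.Finite A (LocCoh.H (IsLocalRing.maximalIdeal A) 1 (A ⧸ Ideal.span {f})))
    (h₂ : Module.Finite A (LocCoh.H (IsLocalRing.maximalIdeal A) 2 (A ⧸ Ideal.span {f})))
    (h₃ : Subsingleton (LocCoh.H (IsLocalRing.maximalIdeal A) 3 (A ⧸ Ideal.span {f})))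
    (L₀ : (↑(Formal2.specQuotMap A f ⁻¹ᵁ FEt.puncturedSpec A) : Scheme.{u}).Modules)
    (hL₀ : PicF.IsInvertible L₀) :
    ∃ (U' : (Spec (CommRingCat.of A)).Opens) (_ : U' ≤ FEt.puncturedSpec A)
      (h : Formal2.specQuotMap A f ⁻¹ᵁ FEt.puncturedSpec A ≤ Formal2.specQuotMap A f ⁻¹ᵁ U')
      (L : (↑U' : Scheme.{u}).Modules), PicF.IsInvertible L ∧
        (∀ p ∈ FEt.puncturedSpec A, f ∈ p.asIdeal → p ∈ U') ∧
        Nonempty ((Scheme.Modules.pullback ((Formal2.specQuotMap A f).resLE U' _ h)).obj L ≅ L₀) := by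
  obtain ⟨M, hM, hfr, ⟨e⟩⟩ := exists_extension (IsLocalRing.maximalIdeal A) f hnzd h₁ h₂ h₃
    (FEt.puncturedSpec A) (puncturedSpec_eq A) L₀ hL₀
  let U := FEt.puncturedSpec A
  let W' : (U : Scheme.{u}).Opens := ⟨{x | ∃ (T : (U : Scheme.{u}).Opens) (v : Fin 1 → Γ(M, T)),
      x ∈ T ∧ ProjFormLib.IsFrame M v}, isOpen_iff_forall_mem_open.2 fun y ⟨T, v, hy, hv⟩ =>
    ⟨T, fun y' hy' => ⟨T, v, hy', hv⟩, T.2, hy⟩⟩
  let U' := U.ι ''ᵁ W'
  have hU' : U' ≤ U := fun _ ⟨z, _, hz⟩ => hz ▸ z.2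
  let κ := (Spec (CommRingCat.of A)).homOfLE hU'
  have hκ : ∀ x, κ x ∈ W' := fun x => by
    obtain ⟨z, hz, hzx⟩ := x.2
    have h1 : U.ι (κ x) = U.ι z := (congr($(Scheme.homOfLE_ι _ hU') x)).trans hzx.symm
    rwa [U.ι.isOpenEmbedding.injective h1]
  have hin : ∀ p ∈ U, f ∈ p.asIdeal → p ∈ U' := fun p hp hf => ⟨⟨p, hp⟩, hfr ⟨p, hp⟩ hf, rfl⟩
  have h : Formal2.specQuotMap A f ⁻¹ᵁ U ≤ Formal2.specQuotMap A f ⁻¹ᵁ U' := fun y hy =>
    hin _ hy (show Ideal.Quotient.mk (Ideal.span {f}) f ∈ y.asIdeal by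
      rw [Ideal.Quotient.eq_zero_iff_mem.2 (Ideal.mem_span_singleton_self f)]; exact zero_mem _)
  refine ⟨U', hU', h, KFlatLib.pb κ M, PicAlgzLib.isInvertible_of_frames fun x => ?_, hin, ⟨?_⟩⟩
  · obtain ⟨T, v, hxT, hv⟩ := hκ x
    exact ⟨κ ⁻¹ᵁ T, _, hxT, CohCmpLib.isFrame_puSecLE κ hv le_rfl⟩
  · have hfac : (Formal2.specQuotMap A f).resLE U' _ h ≫ κ = Formal2.specQuotMap A f ∣_ U := by
      rw [← cancel_mono U.ι, Category.assoc, Scheme.homOfLE_ι, Scheme.Hom.resLE_comp_ι, morphismRestrict_ι]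
    exact (Scheme.Modules.pullbackComp _ _).app M ≪≫ (Scheme.Modules.pullbackCongr hfac).app M ≪≫ e

/-- A prime below two others avoiding `f` lies below a non maximal prime containing `f`. -/
theorem exists_prime_mem (f : A) (hf : f ∈ IsLocalRing.maximalIdeal A) {q q' : Ideal A} [q.IsPrime]
    [q'.IsPrime] (hlt : q < q') (hfq : f ∉ q') :
    ∃ p : Ideal A, p.IsPrime ∧ q ≤ p ∧ f ∈ p ∧ p ≠ IsLocalRing.maximalIdeal A := by
  by_contra hcon
  push Not at hcon
  let m := IsLocalRing.maximalIdeal A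
  let π := Ideal.Quotient.mk q
  have hπ : Function.Surjective π := Ideal.Quotient.mk_surjective
  have hq'm : q' < m := lt_of_le_of_ne (IsLocalRing.le_maximalIdeal ‹q'.IsPrime›.ne_top) fun e => hfq (e.symm ▸ hf)
  have hk : ∀ P : Ideal A, q ≤ P → RingHom.ker π ≤ P := fun P hP => by rwa [Ideal.mk_ker]
  haveI hm' : (m.map π).IsPrime := Ideal.map_isPrime_of_surjective hπ (hk m (hlt.le.trans hq'm.le))
  haveI hq'' : (q'.map π).IsPrime := Ideal.map_isPrime_of_surjective hπ (hk q' hlt.le)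
  have hmin : m.map π ∈ (Ideal.span {π f}).minimalPrimes := by
    refine ⟨⟨hm', (Ideal.span_singleton_le_iff_mem _).2 (Ideal.mem_map_of_mem π hf)⟩, fun P hP hPm => ?_⟩
    haveI := hP.1
    have := hcon (P.comap π) (Ideal.comap_isPrime π P)
      (fun x hx => Ideal.mem_comap.2 (by rw [show π x = 0 from Ideal.Quotient.eq_zero_iff_mem.2 hx]; exact zero_mem _))
      (Ideal.mem_comap.2 ((Ideal.span_singleton_le_iff_mem _).1 hP.2))
    exact (congrArg (Ideal.map π) this).symm.le.trans (Ideal.map_comap_of_surjective π hπ P).le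
  have h1 := Ideal.height_le_one_of_isPrincipal_of_mem_minimalPrimes (Ideal.span {π f}) (m.map π) hmin
  have hlt1 : q'.map π < m.map π := lt_of_le_of_ne (Ideal.map_mono hq'm.le) fun e => hq'm.ne (by
    have := congrArg (Ideal.comap π) e
    rwa [Ideal.comap_map_of_surjective' π hπ, Ideal.comap_map_of_surjective' π hπ, Ideal.mk_ker,
      sup_eq_left.2 hlt.le, sup_eq_left.2 (hlt.le.trans hq'm.le)] at this)
  have hlt0 : (⊥ : Ideal (A ⧸ q)) < q'.map π := bot_lt_iff_ne_bot.2 fun e => by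
    rw [Ideal.map_eq_bot_iff_le_ker, Ideal.mk_ker] at e
    exact hlt.not_ge e
  haveI : (⊥ : Ideal (A ⧸ q)).IsPrime := Ideal.isPrime_bot
  have h0 := Ideal.height_strict_mono_of_isPrime hlt0
  have h2 := Ideal.height_strict_mono_of_isPrime hlt1
  have h3 : (q'.map π).height = 0 := ENat.lt_one_iff_eq_zero.1 (h2.trans_le h1)
  rw [h3] at h0
  exact not_lt_zero' h0

/-- Surjectivity. -/
theorem picPullbackSurjective_of
    (f : A) (hf : f ∈ IsLocalRing.maximalIdeal A) [IsAdicComplete (Ideal.span {f}) A]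
    (hnzd : f ∈ nonZeroDivisors A)
    (h₁ : Module.Finite A (LocCoh.H (IsLocalRing.maximalIdeal A) 1 (A ⧸ Ideal.span {f})))
    (h₂ : Module.Finite A (LocCoh.H (IsLocalRing.maximalIdeal A) 2 (A ⧸ Ideal.span {f})))
    (h₃ : Subsingleton (LocCoh.H (IsLocalRing.maximalIdeal A) 3 (A ⧸ Ideal.span {f})))
    (h₅ : ∀ (q : Ideal A) [q.IsPrime], f ∉ q → (∀ (q' : Ideal A), q'.IsPrime → q ≤ q' → f ∉ q' → q' = q) →
      Formal2.PicTrivial (↑(FEt.puncturedSpec (Localization.AtPrime q)) : Scheme.{u})) :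
    Formal2.PicPullbackSurjective (Formal2.specQuotMap A f ∣_ FEt.puncturedSpec A) := by
  intro L₀ hL₀
  obtain ⟨U', hU', hle, L₁, hL₁, hin, ⟨e₀⟩⟩ := exists_nhd_extension A f hnzd h₁ h₂ h₃ L₀ hL₀
  let X := Spec (CommRingCat.of A)
  haveI : IsNoetherianRing (CommRingCat.of A) := inferInstanceAs (IsNoetherianRing A)
  haveI : NoetherianSpace X := inferInstanceAs (NoetherianSpace (PrimeSpectrum A))
  let S : Set X.Opens := {V | ∃ (h : U' ≤ V) (_ : V ≤ FEt.puncturedSpec A) (L : (V : Scheme.{u}).Modules),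
    PicF.IsInvertible L ∧ Nonempty ((Scheme.Modules.pullback (X.homOfLE h)).obj L ≅ L₁)}
  obtain ⟨V, ⟨hU'V, hVU, L, hL, ⟨eL⟩⟩, hmax⟩ := (wellFounded_gt (α := X.Opens)).has_min S ⟨U', le_rfl, hU', L₁, hL₁,
    ⟨(Scheme.Modules.pullbackCongr (X.homOfLE_rfl U')).app L₁ ≪≫ (Scheme.Modules.pullbackId _).app L₁⟩⟩
  obtain rfl : V = FEt.puncturedSpec A := by
    refine le_antisymm hVU fun q hqU => ?_
    by_contra hqV
    have hspec : ∀ {x y : X}, x.asIdeal ≤ y.asIdeal → y ∈ V → x ∈ V := fun {x y} h hy =>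
      ((PrimeSpectrum.le_iff_specializes x y).1 h).mem_open V.2 hy
    have hnf : ∀ x ∈ FEt.puncturedSpec A, x ∉ V → f ∉ x.asIdeal := fun x hx hxV h => hxV (hU'V (hin x hx h))
    have hmaxl : ∀ x ∈ FEt.puncturedSpec A, x ∉ V → ∀ q' : Ideal A, q'.IsPrime → x.asIdeal ≤ q' → f ∉ q' →
        q' = x.asIdeal := by
      intro x hx hxV q' hq' hxq' hfq'
      by_contra hne
      obtain ⟨p, hp, hxp, hfp, hpm⟩ := exists_prime_mem A f hf (lt_of_le_of_ne hxq' (Ne.symm hne)) hfq'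
      exact hxV (hspec hxp (hU'V (hin ⟨p, hp⟩ (fun e => hpm (congrArg PrimeSpectrum.asIdeal e)) hfp)))
    have hlow : ∀ Q : PrimeSpectrum A, Q.asIdeal < q.asIdeal → Q ∈ V := fun Q hQ => by
      by_contra hQV
      have hQU : Q ∈ FEt.puncturedSpec A := fun (e : Q = IsLocalRing.closedPoint A) =>
        hQ.not_ge (e ▸ IsLocalRing.le_maximalIdeal q.isPrime.ne_top)
      exact hQ.ne (hmaxl Q hQU hQV q.asIdeal q.isPrime hQ.le (hnf q hqU hqV)).symm
    obtain ⟨h, hhq, hh⟩ := ParaFLib.exists_nhd_bad (B := ((V : Set X)ᶜ : Set (PrimeSpectrum A)))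
      V.2.isClosed_compl q fun Q hQ hQc => hQc (hlow Q hQ)
    let W : X.Opens := V ⊔ (PrimeSpectrum.basicOpen h ⊓ FEt.puncturedSpec A)
    have hW : ∀ x ∈ W, x ≠ q → x ∈ V := fun x hx hne => by
      rcases hx with hx | ⟨hxh, hxU⟩
      · exact hx
      by_contra hxV
      exact hne (PrimeSpectrum.ext (hmaxl q hqU hqV x.asIdeal x.isPrime (hh x hxV hxh) (hnf x hxU hxV)))
    let B := Localization.AtPrime q.asIdeal
    let g : Spec (CommRingCat.of B) ⟶ X := Spec.map (CommRingCat.ofHom (algebraMap A B))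
    have hg : g ⁻¹ᵁ V = FEt.puncturedSpec B := by
      refine Opens.ext (Set.ext fun z => ?_)
      show g z ∈ V ↔ ¬ z = IsLocalRing.closedPoint B
      have hc : g (IsLocalRing.closedPoint B) = q :=
        PrimeSpectrum.ext (Localization.AtPrime.under_maximalIdeal (I := q.asIdeal))
      refine ⟨fun hz e => hqV (hc ▸ e ▸ hz), fun hz => hlow _ (lt_of_le_of_ne ?_ fun e => hz ?_)⟩
      · intro a ha
        by_contra haq
        exact z.isPrime.ne_top (Ideal.eq_top_of_isUnit_mem _ ha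
          (IsLocalization.map_units B (⟨a, haq⟩ : q.asIdeal.primeCompl)))
      · exact PrimeSpectrum.localization_comap_injective B q.asIdeal.primeCompl
          ((PrimeSpectrum.ext e : g z = q).trans hc.symm)
    let G := (Scheme.Modules.pushforward V.ι).obj L
    have hσ : ∃ σ : Γ(KFlatLib.pb g G, g ⁻¹ᵁ V), GenOn _ σ := by
      refine ParaFLib.genOn_pb_of_trivial g V ?_
      have ht := h₅ q.asIdeal (hnf q hqU hqV) (hmaxl q hqU hqV)
      rw [← hg] at ht
      exact ht _ (AmpleDevLib.isInvertible_pb _ hL)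
    obtain ⟨O, hqO, hOW, τ, hτ⟩ := exists_gen_nhd A q G V W (Or.inr ⟨hhq, hqU⟩) hqV hW
      (ParaFLib.invOn_push V hL) hσ
    obtain ⟨E₀, hE₀⟩ := (ParaFLib.bijective_res_congr L (A := V.ι ⁻¹ᵁ O) (B := V.ι ⁻¹ᵁ (O ⊓ V))
      (Opens.ext (Set.ext fun z => ⟨fun hz => ⟨hz, z.2⟩, fun hz => hz.1⟩)) le_rfl
      (V.ι.preimage_mono inf_le_left)
      (by rw [show AmpleLib.res L (le_refl (V.ι ⁻¹ᵁ O)) = id from funext (AmpleLib.res_refl L)]
          exact Function.bijective_id)).2 τ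
    let W₂ : X.Opens := V ⊔ O
    let A' := G.restrict W₂.ι
    let E : PUnit.{u+1} → Γ(A', W₂.ι ⁻¹ᵁ O) := fun _ => res G (W₂.ι.image_preimage_le O) (E₀ : Γ(G, O))
    have hgen : ∀ (i : PUnit.{u+1}) (T : (W₂ : Scheme.{u}).Opens) (_ : T ≤ W₂.ι ⁻¹ᵁ V) (hT : T ≤ W₂.ι ⁻¹ᵁ O),
        Function.Bijective fun r : Γ((W₂ : Scheme.{u}), T) => r • res A' hT (E i) := by
      intro i T hTV hTO
      have hle' : W₂.ι ''ᵁ T ≤ O ⊓ V := by
        rintro _ ⟨z, hz, rfl⟩; exact ⟨hTO hz, hTV hz⟩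
      have hb := (hτ.restrict W₂.ι T hle') T le_rfl
      have he : res A' hTO (E i) = res A' (le_refl T) (res G hle' τ : Γ(A', T)) := by
        rw [AmpleLib.res_refl]
        show res G (W₂.ι.image_mono hTO) (res G (W₂.ι.image_preimage_le O) (E₀ : Γ(G, O))) = res G hle' τ
        rw [show τ = res G (inf_le_left : O ⊓ V ≤ O) (E₀ : Γ(G, O)) from hE₀.symm, AmpleLib.res_res,
          AmpleLib.res_res]
      simp only [he]
      exact hb
    obtain ⟨L', p, -, hL', hp, -, -⟩ := DiscExtLib.exists_glue_module (U := W₂.ι ⁻¹ᵁ V)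
      (D := fun _ : PUnit.{u+1} => W₂.ι ⁻¹ᵁ O) (A := A') (E := E) hgen
      (fun x => x.2.imp id fun hx => ⟨⟨⟩, hx⟩) (fun i j hij => absurd (Subsingleton.elim i j) hij)
      (fun y hy => by
        obtain ⟨T, hyT, hT, s, hs⟩ := ParaFLib.invOn_push V hL (W₂.ι y) hy
        exact ⟨W₂.ι ⁻¹ᵁ T, hyT, fun z hz => hT hz, _,
          hs.restrict W₂.ι (W₂.ι ⁻¹ᵁ T) (W₂.ι.image_preimage_le T)⟩)
    have hVW : V ≤ W₂ := le_sup_left
    let κ := X.homOfLE hVW
    haveI : IsIso ((Scheme.Modules.restrictFunctor κ).map p) := by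
      refine Scheme.Modules.Hom.isIso_iff_isIso_app.mpr fun T => (ConcreteCategory.isIso_iff_bijective _).mpr ?_
      refine hp (κ ''ᵁ T) ?_
      rintro _ ⟨z, -, rfl⟩
      show W₂.ι (κ z) ∈ V
      rw [show W₂.ι (κ z) = V.ι z from congr($(Scheme.homOfLE_ι X hVW) z)]
      exact z.2
    let ε : (Scheme.Modules.pullback κ).obj L' ≅ L :=
      ((Scheme.Modules.restrictFunctorIsoPullback κ).app L').symm ≪≫
        asIso ((Scheme.Modules.restrictFunctor κ).map p) ≪≫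
        (Scheme.Modules.restrictFunctorIsoPullback κ).app A' ≪≫
        (Scheme.Modules.pullback κ).mapIso ((Scheme.Modules.restrictFunctorIsoPullback W₂.ι).app G) ≪≫
        (Scheme.Modules.pullbackComp κ W₂.ι).app G ≪≫
        (Scheme.Modules.pullbackCongr (Scheme.homOfLE_ι X hVW)).app G ≪≫
        ((Scheme.Modules.restrictFunctorIsoPullback V.ι).app G).symm ≪≫
        asIso ((Scheme.Modules.restrictAdjunction V.ι).counit.app L)
    exact hmax W₂ ⟨hU'V.trans hVW, sup_le hVU (hOW.trans (sup_le hVU inf_le_right)), L', hL',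
      ⟨(Scheme.Modules.pullbackCongr (X.homOfLE_homOfLE hU'V hVW).symm).app L' ≪≫
        ((Scheme.Modules.pullbackComp (X.homOfLE hU'V) κ).app L').symm ≪≫
        (Scheme.Modules.pullback _).mapIso ε ≪≫ eL⟩⟩
      (lt_of_le_of_ne hVW fun e => hqV (e ▸ (Or.inr hqO : q ∈ W₂)))
  refine ⟨L, hL, ⟨(Scheme.Modules.pullbackCongr ?_).app L ≪≫ ((Scheme.Modules.pullbackComp _ _).app L).symm ≪≫
    (Scheme.Modules.pullback _).mapIso eL ≪≫ e₀⟩⟩
  rw [← cancel_mono (FEt.puncturedSpec A).ι, Category.assoc, Scheme.homOfLE_ι, Scheme.Hom.resLE_comp_ι,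
    morphismRestrict_ι]

end PicLiftLib

end
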