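import Groth.Agent.KoszLcLib.Punctured
import Groth.Agent.PicH1Lib.FlatIdeal
import Groth.Agent.SweepSix.ConormalSpec
import Groth.Agent.LerayLowLib.PullId
import Groth.Agent.SerreVanLib.Main

/-! Cohomology of the ideal of a closed subscheme on a punctured affine spectrum. -/

set_option autoImplicit false
set_option linter.style.haveILetI false
universe u

open CategoryTheory CategoryTheory.Limits AlgebraicGeometry TopologicalSpace Opposite

noncomputable section

namespace PicLiftLib

theorem subsingleton_HH_pullback_of_isIso {X Y : Scheme.{u}} (σ : X ⟶ Y) [IsIso σ] (M : Y.Modules) (n : ℕ)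
    (h : Subsingleton (Coh.HH Y M n)) : Subsingleton (Coh.HH X ((Scheme.Modules.pullback σ).obj M) n) := by
  refine LerayLowLib.subsingleton_HH_of_section (inv σ) σ (IsIso.hom_inv_id σ) _ n ?_
  exact SerreVanLib.subsingleton_HH_of_iso ((Scheme.Modules.pullbackComp _ _).app M ≪≫
    (Scheme.Modules.pullbackCongr (IsIso.inv_hom_id σ)).app M ≪≫ (Scheme.Modules.pullbackId Y).app M) n h

theorem nonempty_iso_tilde_restrict {B : CommRingCat.{u}} (M : (Spec B).Modules) [Coh.IsQCoh M] :
    Nonempty (M ≅ tilde ((moduleSpecΓFunctor (R := B)).obj (M.restrict (𝟙 (Spec B))))) := by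
  haveI : M.IsQuasicoherent := inferInstance
  let M' := M.restrict (𝟙 (Spec B))
  haveI : M'.IsQuasicoherent := Scheme.Modules.isQuasicoherent_restrictFunctor _ _
  haveI : IsIso M'.fromTildeΓ := Scheme.Modules.isIso_fromTildeΓ_of_isQuasicoherent M'
  exact ⟨((Scheme.Modules.pullbackId _).app M).symm ≪≫
    ((Scheme.Modules.restrictFunctorIsoPullback (𝟙 (Spec B))).app M).symm ≪≫ (asIso M'.fromTildeΓ).symm⟩

theorem nonempty_idealMod_iso' {B A : CommRingCat.{u}} (φ : B ⟶ A) :
    Nonempty (ClSub.idealMod (Spec.map φ).ker ≅ tilde (SweepSix.ConormalSpec.kerMod φ)) := by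
  obtain ⟨k⟩ := SweepSix.ConormalSpec.nonempty_kerMod_iso (𝟙 (Spec B)) φ
  haveI := SweepSix.ConormalSpec.isQCoh_idealMod (Spec.map φ ≫ 𝟙 (Spec B)).ker
  obtain ⟨t⟩ := nonempty_iso_tilde_restrict (ClSub.idealMod (Spec.map φ ≫ 𝟙 (Spec B)).ker)
  exact ⟨eqToIso (congrArg (fun h : Spec A ⟶ Spec B => ClSub.idealMod h.ker) (Category.comp_id (Spec.map φ)).symm) ≪≫
    t ≪≫ (tilde.functor B).mapIso k⟩

/-- The ideal of a closed subscheme of an affine scheme is the sheaf of the kernel. -/
theorem nonempty_idealMod_iso {B C : Type u} [CommRing B] [CommRing C] (φ : B →+* C) :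
    Nonempty (ClSub.idealMod (Spec.map (CommRingCat.ofHom φ)).ker ≅
      tilde (R := CommRingCat.of B) (ModuleCat.of B (RingHom.ker φ))) :=
  nonempty_idealMod_iso' (CommRingCat.ofHom φ)

/-- The ideal of a closed subscheme, on an open immersion onto a punctured spectrum. -/
theorem subsingleton_HH_ker {B C : Type u} [CommRing B] [IsNoetherianRing B] [CommRing C] (φ : B →+* C)
    (𝔞 : Ideal B) {T : Scheme.{u}} (j : T ⟶ Spec (CommRingCat.of B)) [IsOpenImmersion j]
    (hj : j.opensRange = LocCoh.puncturedOpen B 𝔞) (p : ℕ) (hp : 1 ≤ p)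
    (h : Subsingleton (LocCoh.H 𝔞 (p + 1) (RingHom.ker φ))) :
    Subsingleton (Coh.HH T (ClSub.idealMod ((Spec.map (CommRingCat.ofHom φ)).ker.comap j)) p) := by
  let U := LocCoh.puncturedOpen B 𝔞
  let K := (Spec.map (CommRingCat.ofHom φ)).ker
  haveI := PicH1Lib.isIso_toComap j K
  refine SerreVanLib.subsingleton_HH_of_iso (asIso (PicH1Lib.toComap j K)).symm p ?_
  have hr : Set.range j = Set.range U.ι := by
    rw [Scheme.Opens.range_ι]; exact congrArg (fun O : (Spec (CommRingCat.of B)).Opens => (O : Set (Spec (CommRingCat.of B)))) hj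
  let σ := IsOpenImmersion.isoOfRangeEq j U.ι hr
  obtain ⟨i⟩ := nonempty_idealMod_iso φ
  obtain ⟨e⟩ := KoszLcLib.nonempty_HH_equiv_H B 𝔞 (RingHom.ker φ) p hp
  haveI : Subsingleton (Coh.HH ↑U
      ((AlgebraicGeometry.tilde (R := CommRingCat.of B) (ModuleCat.of B (RingHom.ker φ))).restrict U.ι) p) :=
    e.toEquiv.subsingleton
  refine SerreVanLib.subsingleton_HH_of_iso ?_ p
    (subsingleton_HH_pullback_of_isIso σ.hom ((AlgebraicGeometry.tilde (R := CommRingCat.of B)
      (ModuleCat.of B (RingHom.ker φ))).restrict U.ι) p inferInstance)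
  exact ((Scheme.Modules.pullback σ.hom).mapIso ((Scheme.Modules.restrictFunctor U.ι).mapIso i.symm ≪≫
      (Scheme.Modules.restrictFunctorIsoPullback U.ι).app _) ≪≫
    (Scheme.Modules.pullbackComp σ.hom U.ι).app _ ≪≫
    (Scheme.Modules.pullbackCongr (show σ.hom ≫ U.ι = j from IsOpenImmersion.isoOfRangeEq_hom_fac j U.ι hr)).app (ClSub.idealMod K)).symm

end PicLiftLib

end
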