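import Groth.Agent.PicLiftLib.Main
import Groth.Agent.ParaFLib.FlatDescent
import Groth.Agent.ParaFLib.Depth
import Groth.Agent.ParaFLib.Normal
import Groth.Agent.CatLib.CM
import Groth.Agent.CatLib.More
import Groth.Agent.CIRingLib.Completion
import Groth.Agent.CIRingLib.Localization
import Groth.Agent.LocCohLib.Facts
import Groth.Agent.S0546
import Groth.Agent.S0548
import Groth.Agent.S9549
import Mathlib

/-! The Picard group of the punctured spectrum of a complete intersection of dimension at least four. -/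

set_option autoImplicit false
set_option linter.style.haveILetI false
universe u

open CategoryTheory AlgebraicGeometry IsLocalRing RingTheory.Sequence CommAlgDim
open ParaFLib (preimage_puncturedSpec picPullbackInjective_descent)

noncomputable section

namespace PicLiftLib

theorem picTrivial_descend (A B : Type u) [CommRing A] [CommRing B] [IsNoetherianRing A] [IsLocalRing A]
    [IsNoetherianRing B] [IsLocalRing B] [Algebra A B] [IsLocalHom (algebraMap A B)] [Module.Flat A B]
    (hfib : ∀ Q : Ideal B, Q.IsPrime → (maximalIdeal A).map (algebraMap A B) ≤ Q → Q = maximalIdeal B)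
    (hd : (2 : ℕ∞) ≤ LocCoh.depth A A)
    (h : Formal2.PicTrivial (↑(FEt.puncturedSpec B) : Scheme.{u})) :
    Formal2.PicTrivial (↑(FEt.puncturedSpec A) : Scheme.{u}) := fun L hL => by
  refine picPullbackInjective_descent A B hfib hd L hL ?_
  rw [← preimage_puncturedSpec A B hfib] at h
  exact h _ (AmpleDevLib.isInvertible_pb _ hL)

theorem picTrivial_of_ringEquiv {A B : Type u} [CommRing A] [CommRing B] [IsNoetherianRing A] [IsLocalRing A]
    [IsNoetherianRing B] [IsLocalRing B] (e : A ≃+* B) (hd : (2 : ℕ∞) ≤ LocCoh.depth A A)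
    (h : Formal2.PicTrivial (↑(FEt.puncturedSpec B) : Scheme.{u})) :
    Formal2.PicTrivial (↑(FEt.puncturedSpec A) : Scheme.{u}) := by
  letI : Algebra A B := e.toRingHom.toAlgebra
  haveI : IsLocalHom (algebraMap A B) := IsLocalHom.of_surjective e.toRingHom e.surjective
  haveI : Module.Flat A B := RingHom.Flat.of_bijective (f := e.toRingHom) e.bijective
  refine picTrivial_descend A B (fun Q hQ hle => ?_) hd h
  refine le_antisymm (le_maximalIdeal hQ.ne_top) (le_trans (le_of_eq ?_) hle)
  exact (IsLocalRing.map_maximalIdeal_of_surjective e.toRingHom e.surjective).symm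

theorem isCM_quot : ∀ (n : ℕ) (R : Type u) [CommRing R] [IsLocalRing R] [IsNoetherianRing R] (rs : List R)
    [IsLocalRing (R ⧸ Ideal.ofList rs)],
    rs.length = n → IsCM R → IsRegular R rs → IsCM (R ⧸ Ideal.ofList rs)
  | 0, R, _, _, _, rs, _, hl, hR, _ =>
    CatLib.isCM_of_ringEquiv ((RingEquiv.quotientBot R).symm.trans
      (Ideal.quotEquivOfEq (by rw [List.length_eq_zero_iff.1 hl, Ideal.ofList_nil]))) hR
  | n + 1, R, _, _, _, [], _, hl, _, _ => by simp at hl
  | n + 1, R, _, _, _, x :: rs, _, hl, hR, hreg => by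
    obtain ⟨hx, hrs⟩ := isRegular_cons_ring.1 hreg
    have hxm : x ∈ maximalIdeal R := mem_maximalIdeal_of_isRegular hreg x (List.mem_cons_self ..)
    haveI : Nontrivial (R ⧸ Ideal.span {x}) := Ideal.Quotient.nontrivial_iff.2 fun e =>
      (maximalIdeal.isMaximal R).ne_top (top_le_iff.1 (e ▸ (Ideal.span_singleton_le_iff_mem _).2 hxm))
    haveI : IsLocalRing (R ⧸ Ideal.span {x}) := IsLocalRing.of_surjective' _ Ideal.Quotient.mk_surjective
    let e : (R ⧸ Ideal.span {x}) ⧸ Ideal.ofList (rs.map (Ideal.Quotient.mk (Ideal.span {x}))) ≃+*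
        R ⧸ Ideal.ofList (x :: rs) :=
      (Ideal.quotEquivOfEq (by rw [Ideal.map_ofList])).trans
        ((DoubleQuot.quotQuotEquivQuotSup (Ideal.span {x}) (Ideal.ofList rs)).trans
          (Ideal.quotEquivOfEq (Ideal.ofList_cons x rs).symm))
    haveI : IsLocalRing ((R ⧸ Ideal.span {x}) ⧸ Ideal.ofList (rs.map (Ideal.Quotient.mk (Ideal.span {x})))) :=
      e.symm.isLocalRing
    exact CatLib.isCM_of_ringEquiv e (isCM_quot n _ _ (by simpa using hl) (hR.quotient_singleton hx hxm) hrs)

theorem four_le_depth {A : Type u} [CommRing A] [IsLocalRing A] [IsNoetherianRing A] (hA : IsCM A)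
    (n : ℕ) (hdim : (n : WithBot ℕ∞) ≤ ringKrullDim A) : HasSeqIn (maximalIdeal A) A n := by
  obtain ⟨rs, hrs, hd⟩ := hA
  have : n ≤ rs.length := by rw [hd] at hdim; exact_mod_cast hdim
  exact HasSeqIn.mono this ⟨rs, rfl, mem_maximalIdeal_of_isRegular hrs, hrs.toIsWeaklyRegular⟩

theorem two_le_depth_of_isCM {A : Type u} [CommRing A] [IsLocalRing A] [IsNoetherianRing A] (hA : IsCM A)
    (hdim : (4 : WithBot ℕ∞) ≤ ringKrullDim A) : (2 : ℕ∞) ≤ LocCoh.depth A A := by
  rw [show (2 : ℕ∞) = ((2 : ℕ) : ℕ∞) from rfl, le_depth_iff]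
  exact four_le_depth hA 2 (le_trans (by exact_mod_cast (by norm_num : 2 ≤ 4)) hdim)

theorem preimage_puncturedSpec_mk (A : Type u) [CommRing A] [IsNoetherianRing A] [IsLocalRing A] (f : A)
    [IsLocalRing (A ⧸ Ideal.span {f})] :
    Formal2.specQuotMap A f ⁻¹ᵁ FEt.puncturedSpec A = FEt.puncturedSpec (A ⧸ Ideal.span {f}) := by
  rw [puncturedSpec_eq, puncturedSpec_eq, puncturedOpen_preimage,
    IsLocalRing.map_maximalIdeal_of_surjective _ Ideal.Quotient.mk_surjective]

/-- In a local domain where only the zero ideal avoids `f`, the dimension is at most one. -/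
theorem height_maximalIdeal_le_one {B : Type u} [CommRing B] [IsDomain B] [IsNoetherianRing B] [IsLocalRing B]
    {f : B} (hf : f ∈ maximalIdeal B) (hf0 : f ≠ 0) (h : ∀ P : Ideal B, P.IsPrime → f ∉ P → P = ⊥) :
    (maximalIdeal B).height ≤ 1 := by
  by_contra hc
  have hfin := Ideal.finite_minimalPrimes_of_isNoetherianRing B (Ideal.span {f})
  have hne : ∀ P ∈ (Ideal.span {f}).minimalPrimes, P ≠ maximalIdeal B := fun P hP e =>
    hc (e ▸ Ideal.height_le_one_of_isPrincipal_of_mem_minimalPrimes _ P hP)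
  obtain ⟨x, hxm, hx⟩ : ∃ x ∈ maximalIdeal B, ∀ P ∈ (Ideal.span {f}).minimalPrimes, x ∉ P := by
    by_contra hcon
    push Not at hcon
    obtain ⟨P, hP, hPm⟩ := (Ideal.subset_union_prime_finite hfin (f := fun P => P) ⊥ ⊥
      fun P hP _ _ => hP.1.1).1 (fun x hx => by obtain ⟨P, hP, hxP⟩ := hcon x hx; exact Set.mem_iUnion₂.2 ⟨P, hP, hxP⟩)
    exact hne P hP (le_antisymm (le_maximalIdeal hP.1.1.ne_top) hPm)
  obtain ⟨p', hp', -⟩ := Ideal.exists_minimalPrimes_le ((Ideal.span_singleton_le_iff_mem _).2 hxm)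
  haveI := hp'.1.1
  have hxp : x ∈ p' := hp'.1.2 (Ideal.mem_span_singleton_self x)
  by_cases hfp : f ∈ p'
  · obtain ⟨P, hP, hPp⟩ := Ideal.exists_minimalPrimes_le ((Ideal.span_singleton_le_iff_mem _).2 hfp)
    haveI := hP.1.1
    have h1 : P.height < p'.height := Ideal.height_strict_mono_of_isPrime
      (lt_of_le_of_ne hPp fun e => hx P hP (e ▸ hxp))
    have h2 : P.height = 0 := ENat.lt_one_iff_eq_zero.1
      (h1.trans_le (Ideal.height_le_one_of_isPrincipal_of_mem_minimalPrimes _ p' hp'))
    have h3 : P = ⊥ := by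
      by_contra h3
      haveI : (⊥ : Ideal B).IsPrime := Ideal.isPrime_bot
      exact not_lt_zero' (h2 ▸ Ideal.height_strict_mono_of_isPrime (bot_lt_iff_ne_bot.2 h3))
    exact hf0 (Ideal.mem_bot.1 (h3 ▸ hP.1.2 (Ideal.mem_span_singleton_self f)))
  · obtain ⟨P, hP, -⟩ := Ideal.exists_minimalPrimes_le ((Ideal.span_singleton_le_iff_mem _).2 hf)
    rw [h p' hp'.1.1 hfp, Ideal.mem_bot] at hxp
    exact hx P hP (hxp ▸ zero_mem P)

/-- The step: divide by one nonzerodivisor. -/
theorem picTrivial_mod (A : Type u) [CommRing A] [IsNoetherianRing A] [IsLocalRing A] (hA : IsCM A) (f : A)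
    (hf : f ∈ maximalIdeal A) [IsAdicComplete (Ideal.span {f}) A] (hreg : IsSMulRegular A f)
    (hdim : ((5 : ℕ) : WithBot ℕ∞) ≤ ringKrullDim A)
    (hA' : Formal2.PicTrivial (↑(FEt.puncturedSpec A) : Scheme.{u}))
    (hloc : ∀ (q : Ideal A) [q.IsPrime], (4 : WithBot ℕ∞) ≤ ringKrullDim (Localization.AtPrime q) →
      Formal2.PicTrivial (↑(FEt.puncturedSpec (Localization.AtPrime q)) : Scheme.{u}))
    [IsLocalRing (A ⧸ Ideal.span {f})] :
    Formal2.PicTrivial (↑(FEt.puncturedSpec (A ⧸ Ideal.span {f})) : Scheme.{u}) := by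
  have hnzd : f ∈ nonZeroDivisors A := mem_nonZeroDivisors_iff_right.2 fun z hz =>
    hreg.right_eq_zero_of_smul (by rwa [smul_eq_mul, mul_comm])
  let eq : QuotSMulTop f A ≃ₗ[A] A ⧸ Ideal.span {f} :=
    Submodule.quotEquivOfEq _ _ (by rw [← Submodule.ideal_span_singleton_smul, smul_eq_mul, Ideal.mul_top])
  have hH : ∀ i, i < 4 → Subsingleton (LocCoh.H (maximalIdeal A) i (A ⧸ Ideal.span {f})) :=
    (LocCohLib.hasSeqIn_iff_subsingleton_H (I := maximalIdeal A) 4 (A ⧸ Ideal.span {f})).1
      (((four_le_depth hA 5 hdim).quotSMulTop hf hreg).congr eq)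
  haveI := hH 1 (by omega)
  haveI := hH 2 (by omega)
  have hsurj := picPullbackSurjective_of A f hf hnzd inferInstance inferInstance (hH 3 (by omega))
    fun q _ hfq hmax => by
      refine hloc q ?_
      rw [IsLocalization.AtPrime.ringKrullDim_eq_height q]
      have hq1 : ringKrullDim (A ⧸ q) ≤ 1 := by
        haveI : IsLocalRing (A ⧸ q) := IsLocalRing.of_surjective' _ Ideal.Quotient.mk_surjective
        rw [← IsLocalRing.maximalIdeal_height_eq_ringKrullDim]
        refine WithBot.coe_le_coe.2 (height_maximalIdeal_le_one (f := Ideal.Quotient.mk q f) ?_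
          (fun e => hfq (Ideal.Quotient.eq_zero_iff_mem.1 e)) fun P hP hfP => ?_)
        · rw [← IsLocalRing.map_maximalIdeal_of_surjective _ Ideal.Quotient.mk_surjective]
          exact Ideal.mem_map_of_mem _ hf
        · have hqP : q ≤ P.comap (Ideal.Quotient.mk q) := fun x hx => Ideal.mem_comap.2 (by
            rw [Ideal.Quotient.eq_zero_iff_mem.2 hx]; exact zero_mem _)
          rw [← Ideal.map_comap_of_surjective _ Ideal.Quotient.mk_surjective P,
            hmax _ (Ideal.comap_isPrime _ P) hqP hfP, Ideal.map_quotient_self]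
      have h1 := CatLib.ringKrullDim_quotient_add_height hA q
      by_contra h4
      rw [not_le] at h4
      have h5 : (q.height : WithBot ℕ∞) ≤ ((3 : ℕ) : WithBot ℕ∞) := by
        have h7 : q.height < (4 : ℕ∞) := WithBot.coe_lt_coe.1 h4
        exact WithBot.coe_le_coe.2 (Order.le_of_lt_add_one (show q.height < (3 : ℕ∞) + 1 from h7))
      have h6 : ((5 : ℕ) : WithBot ℕ∞) ≤ ((4 : ℕ) : WithBot ℕ∞) :=
        (hdim.trans h1.ge).trans ((add_le_add hq1 h5).trans (by norm_num))
      norm_cast at h6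
  rw [← preimage_puncturedSpec_mk]
  intro L₀ hL₀
  obtain ⟨L, hL, ⟨e⟩⟩ := hsurj L₀ hL₀
  obtain ⟨t⟩ := hA' L hL
  exact ⟨e.symm ≪≫ (Scheme.Modules.pullback _).mapIso t ≪≫ KFlatLib.pullUnitIso _⟩

/-- Grothendieck: a complete intersection of dimension at least four. -/
theorem picTrivial_ci : ∀ (r : ℕ) (R : Type u) [CommRing R] [IsRegularLocalRing R] (rs : List R),
    rs.length = r → IsRegular R rs → ∀ (A : Type u) [CommRing A] [IsLocalRing A] [IsNoetherianRing A],
      (A ≃+* R ⧸ Ideal.ofList rs) → (4 : WithBot ℕ∞) ≤ ringKrullDim A →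
        Formal2.PicTrivial (↑(FEt.puncturedSpec A) : Scheme.{u})
  | 0, R, _, _, rs, hl, _, A, _, _, _, e, _ => by
    rw [List.length_eq_zero_iff] at hl
    subst hl
    haveI : IsRegularLocalRing A := IsRegularLocalRing.of_ringEquiv
      (e.trans ((Ideal.quotEquivOfEq Ideal.ofList_nil).trans (RingEquiv.quotientBot R))).symm
    exact Groth.Agent.S9549.result A
  | r + 1, R, _, _, rs, hl, hreg, A, _, _, _, e, hdim => by
    haveI : IsLocalRing (R ⧸ Ideal.ofList rs) := e.isLocalRing
    have hcmA : IsCM A := CatLib.isCM_of_ringEquiv e.symm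
      (isCM_quot _ R rs hl (isCM_of_isRegularLocalRing R) hreg)
    -- completion
    haveI := CIRingLib.isNoetherianRing_cpl R
    haveI := CIRingLib.isNoetherianRing_cpl A
    haveI := CIRingLib.flat_cpl A
    haveI : IsRegularLocalRing (CIRingLib.Cpl R) := (Groth.Agent.S0548.result R).1 inferInstance
    let π : R →+* A := e.symm.toRingHom.comp (Ideal.Quotient.mk _)
    have hπ : Function.Surjective π := e.symm.surjective.comp Ideal.Quotient.mk_surjective
    obtain ⟨σ, hσ, -, hker⟩ := CIRingLib.exists_cplMap π hπ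
    have hkπ : RingHom.ker π = Ideal.ofList rs := by
      ext x; simp [π, RingHom.mem_ker, Ideal.Quotient.eq_zero_iff_mem]
    rw [hkπ, Ideal.map_ofList] at hker
    have hreg' : IsRegular (CIRingLib.Cpl R) (rs.map (algebraMap R (CIRingLib.Cpl R))) := by
      refine IsRegular.of_isWeaklyRegular_of_mem_maximalIdeal _ (fun x hx => ?_) hreg.toIsWeaklyRegular.of_flat
      obtain ⟨y, hy, rfl⟩ := List.mem_map.1 hx
      exact map_nonunit (algebraMap R (CIRingLib.Cpl R)) y (mem_maximalIdeal_of_isRegular hreg y hy)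
    refine picTrivial_descend A (CIRingLib.Cpl A) (fun Q hQ hle => ?_) (two_le_depth_of_isCM hcmA hdim) ?_
    · rw [← AdicCompletion.maximalIdeal_eq_map] at hle
      exact le_antisymm (le_maximalIdeal hQ.ne_top) hle
    have hdim' : (4 : WithBot ℕ∞) ≤ ringKrullDim (CIRingLib.Cpl A) := by
      rwa [CatLib.ringKrullDim_cpl]
    -- the complete case
    obtain ⟨rs', f, hsplit⟩ : ∃ rs' f, rs.map (algebraMap R (CIRingLib.Cpl R)) = rs' ++ [f] := by
      rcases List.eq_nil_or_concat (rs.map (algebraMap R (CIRingLib.Cpl R))) with h | ⟨l, b, h⟩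
      · simp [List.map_eq_nil_iff] at h; subst h; simp at hl
      · exact ⟨l, b, by simpa using h⟩
    have hl' : rs'.length = r := by
      have := congrArg List.length hsplit
      simp [hl] at this; omega
    rw [hsplit] at hreg' hker
    obtain ⟨hw1, hw2⟩ := (isWeaklyRegular_append_iff _ rs' [f]).1 hreg'.toIsWeaklyRegular
    have hmem := mem_maximalIdeal_of_isRegular hreg'
    have hreg1 : IsRegular (CIRingLib.Cpl R) rs' :=
      IsRegular.of_isWeaklyRegular_of_mem_maximalIdeal _ (fun x hx => hmem x (List.mem_append_left _ hx)) hw1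
    let R' := CIRingLib.Cpl R
    let A' := R' ⧸ Ideal.ofList rs'
    let π' := Ideal.Quotient.mk (Ideal.ofList rs')
    haveI : Nontrivial A' := Ideal.Quotient.nontrivial_iff.2 fun h => (maximalIdeal.isMaximal R').ne_top
      (top_le_iff.1 (h ▸ ofList_le_iff.2 fun x hx => hmem x (List.mem_append_left _ hx)))
    haveI : IsLocalRing A' := IsLocalRing.of_surjective' π' Ideal.Quotient.mk_surjective
    have hfreg : IsSMulRegular A' (π' f) := by
      have h1 := (isWeaklyRegular_singleton_iff _ _).1 hw2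
      rw [isSMulRegular_quotient_iff_mem_of_smul_mem] at h1
      refine isSMulRegular_iff_right_eq_zero_of_smul.2 fun z hz => ?_
      obtain ⟨z, rfl⟩ := Ideal.Quotient.mk_surjective z
      rw [smul_eq_mul, ← map_mul, Ideal.Quotient.eq_zero_iff_mem] at hz
      have h2 := h1 z (by simpa [Ideal.mul_top] using hz)
      exact Ideal.Quotient.eq_zero_iff_mem.2 (by simpa [Ideal.mul_top] using h2)
    have hfm : π' f ∈ maximalIdeal A' := by
      rw [← IsLocalRing.map_maximalIdeal_of_surjective π' Ideal.Quotient.mk_surjective]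
      exact Ideal.mem_map_of_mem _ (hmem f (by simp))
    let eA : CIRingLib.Cpl A ≃+* A' ⧸ Ideal.span {π' f} :=
      (RingHom.quotientKerEquivOfSurjective hσ).symm.trans ((Ideal.quotEquivOfEq (by
        rw [hker, Ideal.ofList_append, Ideal.ofList_singleton])).trans
        ((DoubleQuot.quotQuotEquivQuotSup (Ideal.ofList rs') (Ideal.span {f})).symm.trans
          (Ideal.quotEquivOfEq (by rw [Ideal.map_span, Set.image_singleton]))))
    haveI : IsLocalRing (A' ⧸ Ideal.span {π' f}) := eA.isLocalRing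
    haveI := NormalLib.isAdicComplete_quotient_local (R := R') (Ideal.ofList rs')
    haveI : IsAdicComplete (Ideal.span {π' f}) A' := Groth.Agent.S0546.result A' _ (maximalIdeal A')
      ((Ideal.span_singleton_le_iff_mem _).2 hfm) (IsNoetherian.noetherian _) A'
    have hcm' : IsCM A' := isCM_quot _ R' rs' hl' (isCM_of_isRegularLocalRing R') hreg1
    have hdimA' : ((5 : ℕ) : WithBot ℕ∞) ≤ ringKrullDim A' := by
      rw [← ringKrullDim_quotient_span_singleton_succ_eq_ringKrullDim hfreg hfm,
        ← ringKrullDim_eq_of_ringEquiv eA, show ((5 : ℕ) : WithBot ℕ∞) = 4 + 1 by norm_num]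
      exact add_le_add hdim' le_rfl
    refine picTrivial_of_ringEquiv eA (two_le_depth_of_isCM
      (CatLib.isCM_of_ringEquiv eA.symm (hcm'.quotient_singleton hfreg hfm)) hdim') ?_
    refine picTrivial_mod A' hcm' (π' f) hfm hfreg hdimA'
      (picTrivial_ci r R' rs' hl' hreg1 A' (RingEquiv.refl _) (le_trans (by norm_cast) hdimA')) fun q _ hq4 => ?_
    let Q := q.comap π'
    haveI : IsRegularLocalRing (Localization.AtPrime Q) := isRegularLocalRing_localization R' Q
    have hQ : ∀ x ∈ rs', x ∈ Q := fun x hx => Ideal.mem_comap.2 (by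
      rw [show π' x = 0 from Ideal.Quotient.eq_zero_iff_mem.2 (Ideal.subset_span hx)]; exact zero_mem _)
    have hregQ : IsRegular (Localization.AtPrime Q) (rs'.map (algebraMap R' (Localization.AtPrime Q))) := by
      refine IsRegular.of_isWeaklyRegular_of_mem_maximalIdeal _ (fun x hx => ?_) hw1.of_flat
      obtain ⟨y, hy, rfl⟩ := List.mem_map.1 hx
      exact (IsLocalization.AtPrime.to_map_mem_maximal_iff _ Q y).2 (hQ y hy)
    have hsq : Function.Surjective (Localization.localRingHom Q q π' rfl) :=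
      RingHom.surjective_localRingHom_of_surjective π' Ideal.Quotient.mk_surjective q
    let eq : Localization.AtPrime q ≃+* Localization.AtPrime Q ⧸ Ideal.ofList (rs'.map (algebraMap R' (Localization.AtPrime Q))) :=
      (RingHom.quotientKerEquivOfSurjective hsq).symm.trans (Ideal.quotEquivOfEq (by
        rw [CIRingLib.ker_localRingHom π' Ideal.Quotient.mk_surjective q, Ideal.mk_ker, Ideal.map_ofList]))
    haveI : IsNoetherianRing (Localization.AtPrime q) := IsLocalization.isNoetherianRing q.primeCompl _ inferInstance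
    exact picTrivial_ci r (Localization.AtPrime Q) _ (by simpa using hl') hregQ (Localization.AtPrime q) eq hq4

end PicLiftLib

end
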