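import Groth.Agent.PicAlgzLib.System

/-!
# Line bundles on the thickenings of a scheme of finite type over an adic ring
-/

set_option autoImplicit false
set_option linter.style.haveILetI false

noncomputable section

universe u

open CategoryTheory CategoryTheory.Limits AlgebraicGeometry TopologicalSpace Opposite
open FormalLib (rhoA)

namespace PicLiftLib

open PicAlgzLib (isIso_desc killedBy_push)

variable {A : Type u} [CommRing A] (J : Ideal A) {X : Scheme.{u}} (f : X ⟶ Spec (CommRingCat.of A))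

/-- The structure map of a thickening. -/
instance thickOverA (n : ℕ) : (CohB1.thick f J n).Over (Spec (CommRingCat.of A)) :=
  ⟨CohB1.thickToBase f J n ≫ CohB1.specQuot J n⟩

theorem trans_ι (n : ℕ) : CohB1.thickTrans f J n ≫ CohB1.thickι f J (n + 1) = CohB1.thickι f J n :=
  (pullback.lift_fst _ _ _).trans (Category.comp_id _)

theorem ι_over (n : ℕ) :
    letI : X.Over (Spec (CommRingCat.of A)) := ⟨f⟩
    CohB1.thickι f J n ≫ (X ↘ Spec (CommRingCat.of A)) = CohB1.thick f J n ↘ Spec (CommRingCat.of A) :=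
  (pullback.condition : pullback.fst f (CohB1.specQuot J n) ≫ f = _)

theorem toGlobal_eq_zero (n : ℕ) {b : A} (hb : b ∈ J ^ (n + 1)) :
    Coh.toGlobal (CohB1.thick f J n ↘ Spec (CommRingCat.of A)) b = 0 := by
  show (CohB1.thickToBase f J n ≫ CohB1.specQuot J n).appTop ((Scheme.ΓSpecIso (CommRingCat.of A)).inv b) = 0
  rw [Scheme.Hom.comp_appTop]
  have h := ConcreteCategory.congr_hom (Scheme.ΓSpecIso_inv_naturality
    (CommRingCat.ofHom (Ideal.Quotient.mk (J ^ (n + 1))))) b
  have h2 : Ideal.Quotient.mk (J ^ (n + 1)) b = 0 := Ideal.Quotient.eq_zero_iff_mem.2 hb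
  refine (congrArg (CohB1.thickToBase f J n).appTop
    (h.symm.trans (congrArg (Scheme.ΓSpecIso (CommRingCat.of (A ⧸ J ^ (n + 1)))).inv h2))).trans ?_
  rw [map_zero, map_zero]

instance isClosedImmersion_ι (n : ℕ) : IsClosedImmersion (CohB1.thickι f J n) := by
  have : IsClosedImmersion (CohB1.specQuot J n) := IsClosedImmersion.spec_of_surjective _ Ideal.Quotient.mk_surjective
  exact MorphismProperty.pullback_fst _ _ inferInstance

theorem ker_incl_le (n : ℕ) (W : X.affineOpens) :
    letI : X.Over (Spec (CommRingCat.of A)) := ⟨f⟩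
    (CohB1.thickι f J n).ker.ideal W ≤ (J ^ (n + 1)).map (rhoA A W.1) := by
  letI : X.Over (Spec (CommRingCat.of A)) := ⟨f⟩
  have : IsClosedImmersion (CohB1.specQuot J n) := IsClosedImmersion.spec_of_surjective _ Ideal.Quotient.mk_surjective
  obtain ⟨-, hk, -⟩ := FComplLib.chart (IsPullback.of_hasPullback f (CohB1.specQuot J n))
    ⟨⊤, isAffineOpen_top _⟩ W le_top
  rw [Scheme.Hom.ker_apply]
  refine hk.le.trans ?_
  rw [Ideal.map_le_iff_le_comap]
  intro x hx
  rw [Scheme.Hom.ker_apply, RingHom.mem_ker] at hx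
  obtain ⟨b, rfl⟩ := (ConcreteCategory.bijective_of_isIso (Scheme.ΓSpecIso (CommRingCat.of A)).inv).2 x
  have hn := ConcreteCategory.congr_hom (Scheme.ΓSpecIso_inv_naturality
    (CommRingCat.ofHom (Ideal.Quotient.mk (J ^ (n + 1))))) b
  have h0 : Ideal.Quotient.mk (J ^ (n + 1)) b = 0 := by
    refine (ConcreteCategory.bijective_of_isIso (Scheme.ΓSpecIso (CommRingCat.of (A ⧸ J ^ (n + 1)))).inv).1 ?_
    exact (hn.trans hx).trans (map_zero _).symm
  rw [Ideal.mem_comap]
  refine Eq.mpr ?_ (Ideal.mem_map_of_mem (rhoA A W.1) (Ideal.Quotient.eq_zero_iff_mem.1 h0))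
  refine congrArg (fun v => v ∈ _) ?_
  rfl

/-- Points over `V(J)` lie in every thickening. -/
theorem mem_range_incl (n : ℕ) (x : X) (hx : J ≤ (f x).asIdeal) : x ∈ Set.range (CohB1.thickι f J n) := by
  show x ∈ Set.range (pullback.fst f (CohB1.specQuot J n))
  rw [Scheme.Pullback.range_fst]
  show f x ∈ Set.range (Spec.map (CommRingCat.ofHom (Ideal.Quotient.mk (J ^ (n + 1)))))
  refine (range_comap_of_surjective _ _ (Ideal.Quotient.mk_surjective (I := J ^ (n + 1)))).ge ?_
  rw [PrimeSpectrum.mem_zeroLocus, SetLike.coe_subset_coe, Ideal.mk_ker]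
  exact (Ideal.pow_le_self (Nat.succ_ne_zero n)).trans hx

variable (L : ∀ n, (CohB1.thick f J n).Modules)
  (ψ : ∀ n, (Scheme.Modules.pullback (CohB1.thickTrans f J n)).obj (L (n + 1)) ≅ L n)

/-- Restriction of the direct image of a level to the level below. -/
def resIso (n : ℕ) :
    (Scheme.Modules.pullback (CohB1.thickι f J n)).obj ((Scheme.Modules.pushforward (CohB1.thickι f J (n + 1))).obj (L (n + 1))) ≅ L n :=
  haveI := CycKSuppLib.isIso_counit (CohB1.thickι f J (n + 1)) (L (n + 1))
  (Scheme.Modules.pullbackCongr (trans_ι J f n).symm).app _ ≪≫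
    ((Scheme.Modules.pullbackComp (CohB1.thickTrans f J n) (CohB1.thickι f J (n + 1))).app _).symm ≪≫
    (Scheme.Modules.pullback (CohB1.thickTrans f J n)).mapIso
      (asIso ((Scheme.Modules.pullbackPushforwardAdjunction (CohB1.thickι f J (n + 1))).counit.app (L (n + 1)))) ≪≫ ψ n

/-- The transition maps of the system on `X`. -/
def trT (n : ℕ) : (Scheme.Modules.pushforward (CohB1.thickι f J (n + 1))).obj (L (n + 1)) ⟶
    (Scheme.Modules.pushforward (CohB1.thickι f J n)).obj (L n) :=
  (Scheme.Modules.pullbackPushforwardAdjunction (CohB1.thickι f J n)).unit.app _ ≫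
    (Scheme.Modules.pushforward (CohB1.thickι f J n)).map (resIso J f L ψ n).hom

/-- The system on `X`. -/
def sys : ℕᵒᵖ ⥤ X.Modules :=
  Functor.ofOpSequence (X := fun n => (Scheme.Modules.pushforward (CohB1.thickι f J n)).obj (L n)) (trT J f L ψ)

variable [IsNoetherianRing A] [LocallyOfFiniteType f] (hL : ∀ n, PicF.IsInvertible (L n))

include hL in
theorem isCohFormal_sys :
    letI : X.Over (Spec (CommRingCat.of A)) := ⟨f⟩
    Formal.IsCohFormal J (sys J f L ψ) := by
  letI : X.Over (Spec (CommRingCat.of A)) := ⟨f⟩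
  have : IsLocallyNoetherian X := LocallyOfFiniteType.isLocallyNoetherian f
  have hc : ∀ n, Coh.IsCoh ((Scheme.Modules.pushforward (CohB1.thickι f J n)).obj (L n)) := fun n =>
    QCohLib.isCoh_push_finite (CohB1.thickι f J n) _ (CurvLib.isCoh_of_isInvertible (hL n))
  have hz := fun n => fun b (hb : b ∈ J ^ (n + 1)) => toGlobal_eq_zero J f n hb
  refine ⟨hc, fun n => killedBy_push (CohB1.thickι f J n) (ι_over J f n) _ (hz n) (L n), fun n => ?_⟩
  haveI := (hc (n + 1)).1
  obtain ⟨h, hi⟩ := isIso_desc (CohB1.thickι f J n) (ι_over J f n) _ (hz n) (ker_incl_le J f n)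
    ((Scheme.Modules.pushforward (CohB1.thickι f J (n + 1))).obj (L (n + 1))) (resIso J f L ψ n)
  have e : (sys J f L ψ).map (homOfLE (Nat.le_succ n)).op = trT J f L ψ n :=
    Functor.ofOpSequence_map_homOfLE_succ _ n
  rw [e]
  exact ⟨h, hi⟩

omit [IsNoetherianRing A] [LocallyOfFiniteType f] in
/-- A module whose completion is the system restricts to the given bundles. -/
theorem nonempty_pullback_iso {M : X.Modules} [Coh.IsQCoh M]
    (φ : letI : X.Over (Spec (CommRingCat.of A)) := ⟨f⟩; Formal.completion J M ≅ sys J f L ψ) (n : ℕ) :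
    Nonempty ((Scheme.Modules.pullback (CohB1.thickι f J n)).obj M ≅ L n) := by
  letI : X.Over (Spec (CommRingCat.of A)) := ⟨f⟩
  have hz := fun b (hb : b ∈ J ^ (n + 1)) => toGlobal_eq_zero J f n hb
  have hi := GrSysLib.isIso_desc_unit (CohB1.thickι f J n) (ι_over J f n) _ hz (ker_incl_le J f n) M
  let δ : Formal.modPow J (n + 1) M ≅
      (Scheme.Modules.pushforward (CohB1.thickι f J n)).obj ((Scheme.Modules.pullback (CohB1.thickι f J n)).obj M) :=
    @asIso _ _ _ _ _ hi
  let ρ : (Scheme.Modules.pushforward (CohB1.thickι f J n)).obj ((Scheme.Modules.pullback (CohB1.thickι f J n)).obj M) ≅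
      (Scheme.Modules.pushforward (CohB1.thickι f J n)).obj (L n) := δ.symm ≪≫ φ.app (op n)
  haveI := CycKSuppLib.isIso_counit (CohB1.thickι f J n) ((Scheme.Modules.pullback (CohB1.thickι f J n)).obj M)
  haveI := CycKSuppLib.isIso_counit (CohB1.thickι f J n) (L n)
  let c := (Scheme.Modules.pullbackPushforwardAdjunction (CohB1.thickι f J n)).counit
  exact ⟨(asIso (c.app ((Scheme.Modules.pullback (CohB1.thickι f J n)).obj M))).symm ≪≫
    (Scheme.Modules.pullback (CohB1.thickι f J n)).mapIso ρ ≪≫ asIso (c.app (L n))⟩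


end PicLiftLib

end
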