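import Groth.Agent.PicLiftLib.Vanish
import Groth.Agent.PicLiftLib.System
import Groth.Agent.Formal2AlgzLib.Main
import Groth.Agent.LocCohLib.BaseChange
import Groth.Agent.ParaFLib.Ext
import Groth.Agent.S12637

/-! A line bundle on the trace of a hypersurface on a punctured spectrum extends to a neighbourhood. -/

set_option autoImplicit false
set_option linter.style.haveILetI false
universe u

open CategoryTheory CategoryTheory.Limits AlgebraicGeometry TopologicalSpace Opposite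

noncomputable section

namespace PicLiftLib

/-- Direct images of modules that agree on an open agree over its neighbourhood. -/
theorem nonempty_restrict_push_iso {X Z : Scheme.{u}} (ι : Z ⟶ X) {L L' : Z.Modules} {W : Z.Opens}
    (α : L.restrict W.ι ≅ L'.restrict W.ι) (V : X.Opens) (h : ι ⁻¹ᵁ V ≤ W) :
    Nonempty (((Scheme.Modules.pushforward ι).obj L).restrict V.ι ≅
      ((Scheme.Modules.pushforward ι).obj L').restrict V.ι) := by
  let F := Scheme.Modules.pushforward ι ⋙ Scheme.Modules.restrictFunctor V.ι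
  have hiso : ∀ M : Z.Modules, IsIso (F.map ((Scheme.Modules.restrictAdjunction W.ι).unit.app M)) := fun M => by
    refine Scheme.Modules.Hom.isIso_iff_isIso_app.mpr fun O => (ConcreteCategory.isIso_iff_bijective _).mpr ?_
    show Function.Bijective (((Scheme.Modules.restrictAdjunction W.ι).unit.app M).app (ι ⁻¹ᵁ (V.ι ''ᵁ O)))
    rw [Scheme.Modules.restrictAdjunction_unit_app_app]
    have hle : ι ⁻¹ᵁ (V.ι ''ᵁ O) ≤ W := (ι.preimage_mono (V.ι.image_mono le_top |>.trans V.ι_image_top.le)).trans h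
    refine ParaFLib.bijective_res_congr M ?_ le_rfl (W.ι.image_preimage_le _) ?_
    · rw [Scheme.Hom.image_preimage_eq_opensRange_inf, Scheme.Opens.opensRange_ι, inf_eq_right.2 hle]
    · rw [show AmpleLib.res M (le_refl (ι ⁻¹ᵁ (V.ι ''ᵁ O))) = id from funext (AmpleLib.res_refl M)]
      exact Function.bijective_id
  haveI := hiso L
  haveI := hiso L'
  exact ⟨asIso (F.map ((Scheme.Modules.restrictAdjunction W.ι).unit.app L)) ≪≫
    F.mapIso ((Scheme.Modules.pushforward W.ι).mapIso α) ≪≫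
    (asIso (F.map ((Scheme.Modules.restrictAdjunction W.ι).unit.app L'))).symm⟩

variable {A : Type u} [CommRing A]

/-- The direct image of a line bundle on a thickening is locally the quotient of the structure sheaf. -/
theorem isFinLocFreeMod_push {X Z : Scheme.{u}} [X.Over (Spec (CommRingCat.of A))]
    [Z.Over (Spec (CommRingCat.of A))] (ι : Z ⟶ X) [IsClosedImmersion ι]
    (hw : ι ≫ (X ↘ Spec (CommRingCat.of A)) = Z ↘ Spec (CommRingCat.of A)) (J : Ideal A) (k : ℕ)
    (hzero : ∀ b ∈ J ^ k, Coh.toGlobal (Z ↘ Spec (CommRingCat.of A)) b = 0)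
    (hker : ∀ W : X.affineOpens, ι.ker.ideal W ≤ (J ^ k).map (FormalLib.rhoA A W.1))
    {L : Z.Modules} (hL : PicF.IsInvertible L) :
    Formal2.IsFinLocFreeMod J k ((Scheme.Modules.pushforward ι).obj L) := by
  intro x
  have hQ : Coh.IsQCoh (FlatMod.freeMod X 1) :=
    TwistLib.isQCoh_of_isInvertible ((CohCmpLib.invertible_iff_rank_one _).2 fun y => ⟨⊤, trivial,
      ⟨(Scheme.Modules.restrictFunctorIsoPullback _).app _ ≪≫
        (Scheme.Modules.pullback _).mapIso (Limits.coproductUniqueIso fun _ : Fin 1 => Coh.structureModule X) ≪≫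
        KFlatLib.pullUnitIso _ ≪≫ (Limits.coproductUniqueIso fun _ : Fin 1 => Coh.structureModule _).symm⟩⟩)
  obtain ⟨h, hi⟩ := PicAlgzLib.isIso_desc ι hw (J ^ k) hzero hker (FlatMod.freeMod X 1)
    ((Scheme.Modules.pullback ι).mapIso (Limits.coproductUniqueIso fun _ : Fin 1 => Coh.structureModule X) ≪≫
      KFlatLib.pullUnitIso ι)
  let δ : Formal.modPow J k (FlatMod.freeMod X 1) ≅ (Scheme.Modules.pushforward ι).obj (Coh.structureModule Z) :=
    @asIso _ _ _ _ _ hi
  have key : ∀ (V : X.Opens) (W : Z.Opens), ι ⁻¹ᵁ V ≤ W → Nonempty (L.restrict W.ι ≅ Coh.structureModule W.toScheme) →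
      Nonempty (((Scheme.Modules.pushforward ι).obj L).restrict V.ι ≅
        (Formal.modPow J k (FlatMod.freeMod X 1)).restrict V.ι) := by
    rintro V W hVW ⟨a⟩
    obtain ⟨b⟩ := nonempty_restrict_push_iso ι (L' := Coh.structureModule Z)
      (a ≪≫ (KFlatLib.pullUnitIso W.ι).symm ≪≫ ((Scheme.Modules.restrictFunctorIsoPullback W.ι).app _).symm) V hVW
    exact ⟨b ≪≫ (Scheme.Modules.restrictFunctor V.ι).mapIso δ.symm⟩
  by_cases hx : x ∈ Set.range ι
  · obtain ⟨z, rfl⟩ := hx
    obtain ⟨W, hzW, hW⟩ := hL z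
    obtain ⟨S, hS, hSW⟩ := ι.isClosedEmbedding.isInducing.isOpen_iff.1 W.2
    exact ⟨⟨S, hS⟩, 1, (Set.ext_iff.1 hSW z).2 hzW, key _ W (fun y hy => (Set.ext_iff.1 hSW y).1 hy) hW⟩
  · rcases isEmpty_or_nonempty Z with hZ | ⟨⟨z⟩⟩
    · refine ⟨⊤, 1, trivial, ?_⟩
      have : ∀ M : Z.Modules, IsZero M := fun M => by
        refine (IsZero.iff_id_eq_zero M).2 (Scheme.Modules.hom_ext _ _ fun O => ConcreteCategory.hom_ext _ _ fun m => ?_)
        exact ModGlueLib.eq_of_locally _ _ fun z _ => (IsEmpty.false z).elim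
      exact ⟨(Scheme.Modules.restrictFunctor _).mapIso
        ((Scheme.Modules.pushforward ι).mapIso ((this L).iso (this _)) ≪≫ δ.symm)⟩
    · obtain ⟨W, -, hW⟩ := hL z
      exact ⟨⟨(Set.range ι)ᶜ, ι.isClosedEmbedding.isClosed_range.isOpen_compl⟩, 1, hx,
        key _ W (fun w hw => absurd (Set.mem_range_self w) hw) hW⟩

variable [IsNoetherianRing A]

omit [IsNoetherianRing A] in
theorem puncturedOpen_preimage {B : Type u} [CommRing B] (φ : A →+* B) (𝔞 : Ideal A) :
    Spec.map (CommRingCat.ofHom φ) ⁻¹ᵁ LocCoh.puncturedOpen A 𝔞 = LocCoh.puncturedOpen B (𝔞.map φ) :=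
  Opens.ext (Set.ext fun q => not_congr
    (show 𝔞 ≤ Ideal.comap φ q.asIdeal ↔ 𝔞.map φ ≤ q.asIdeal from Ideal.map_le_iff_le_comap.symm))

theorem subsingleton_H_factor_ker (𝔞 : Ideal A) {f : A} (hnzd : f ∈ nonZeroDivisors A) (n : ℕ)
    (h₃ : Subsingleton (LocCoh.H 𝔞 3 (A ⧸ Ideal.span {f}))) :
    Subsingleton (LocCoh.H (𝔞.map (Ideal.Quotient.mk (Ideal.span {f} ^ (n + 2)))) 3
      (RingHom.ker (Ideal.Quotient.factor (Ideal.pow_le_pow_right (Nat.le_succ (n + 1)) :
        Ideal.span {f} ^ (n + 2) ≤ Ideal.span {f} ^ (n + 1))))) := by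
  let B := A ⧸ Ideal.span {f} ^ (n + 2)
  let φ := Ideal.Quotient.factor (Ideal.pow_le_pow_right (Nat.le_succ (n + 1)) :
        Ideal.span {f} ^ (n + 2) ≤ Ideal.span {f} ^ (n + 1))
  let v : RingHom.ker φ := ⟨Ideal.Quotient.mk _ (f ^ (n + 1)), by
    rw [RingHom.mem_ker, Ideal.Quotient.factor_mk, Ideal.Quotient.eq_zero_iff_mem]
    exact Ideal.pow_mem_pow (Ideal.mem_span_singleton_self f) _⟩
  let ψ : A →ₗ[A] RingHom.ker φ := LinearMap.toSpanSingleton A _ v
  have hψ : ∀ a, ((ψ a : RingHom.ker φ) : B) = Ideal.Quotient.mk _ (a * f ^ (n + 1)) := fun a => by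
    show ((a • v : RingHom.ker φ) : B) = _
    rw [Submodule.coe_smul_of_tower, Algebra.smul_def, map_mul]
    rfl
  have hsurj : Function.Surjective ψ := fun ⟨b, hb⟩ => by
    obtain ⟨c, rfl⟩ := Ideal.Quotient.mk_surjective b
    rw [RingHom.mem_ker, Ideal.Quotient.factor_mk, Ideal.Quotient.eq_zero_iff_mem, Ideal.span_singleton_pow,
      Ideal.mem_span_singleton'] at hb
    obtain ⟨a, rfl⟩ := hb
    exact ⟨a, Subtype.ext (hψ a)⟩
  have hker : LinearMap.ker ψ = Ideal.span {f} := by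
    ext a
    rw [LinearMap.mem_ker, Subtype.ext_iff, hψ, ZeroMemClass.coe_zero, Ideal.Quotient.eq_zero_iff_mem,
      Ideal.span_singleton_pow, Ideal.mem_span_singleton', Ideal.mem_span_singleton']
    refine exists_congr fun c => ⟨fun h => ?_, fun h => by rw [← h]; ring⟩
    refine (mul_cancel_right_mem_nonZeroDivisors (pow_mem hnzd (n + 1))).1 ?_
    rw [← h]; ring
  let e : (A ⧸ Ideal.span {f}) ≃ₗ[A] RingHom.ker φ :=
    (Submodule.quotEquivOfEq _ _ hker.symm).trans (ψ.quotKerEquivOfSurjective hsurj)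
  haveI : Subsingleton (LocCoh.H 𝔞 3 (RingHom.ker φ)) :=
    ((localCohomology 𝔞 3).mapIso e.toModuleIso).toLinearEquiv.toEquiv.symm.subsingleton
  exact (LocCohLib.resLcEquiv (R' := B) 𝔞 (RingHom.ker φ) 3).toEquiv.subsingleton

/-- The square zero step on the thickenings of the punctured spectrum has no obstructions. -/
theorem subsingleton_HH_thickTrans (𝔞 : Ideal A) {f : A} (hnzd : f ∈ nonZeroDivisors A) (n : ℕ)
    (h₃ : Subsingleton (LocCoh.H 𝔞 3 (A ⧸ Ideal.span {f}))) :
    Subsingleton (Coh.HH _ (ClSub.idealMod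
      (CohB1.thickTrans (LocCoh.puncturedOpen A 𝔞).ι (Ideal.span {f}) n).ker) 2) := by
  let J := Ideal.span {f}
  let j := (LocCoh.puncturedOpen A 𝔞).ι
  have hfst : CohB1.thickTrans j J n ≫ CohB1.thickι j J (n + 1) = CohB1.thickι j J n :=
    (pullback.lift_fst _ _ _).trans (Category.comp_id _)
  have hsnd : CohB1.thickTrans j J n ≫ CohB1.thickToBase j J (n + 1) =
      CohB1.thickToBase j J n ≫ CohB1.specQuotTrans J n := pullback.lift_snd _ _ _
  have big : IsPullback (CohB1.thickTrans j J n ≫ CohB1.thickι j J (n + 1)) (CohB1.thickToBase j J n) j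
      (CohB1.specQuotTrans J n ≫ CohB1.specQuot J (n + 1)) := by
    rw [hfst, CohB1.specQuotTrans_specQuot]
    exact IsPullback.of_hasPullback j (CohB1.specQuot J n)
  have hcart := IsPullback.of_right big hsnd (IsPullback.of_hasPullback j (CohB1.specQuot J (n + 1)))
  haveI : IsClosedImmersion (CohB1.specQuotTrans J n) :=
    IsClosedImmersion.spec_of_surjective _ (Ideal.Quotient.factor_surjective (Ideal.pow_le_pow_right (Nat.le_succ (n + 1))))
  have hker : (CohB1.thickTrans j J n).ker = (CohB1.specQuotTrans J n).ker.comap (CohB1.thickToBase j J (n + 1)) := by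
    rw [← hcart.isoPullback_hom_fst, Scheme.Hom.ker_comp_of_isIso, Scheme.IdealSheafData.ker_fst_of_isClosedImmersion]
  haveI : IsOpenImmersion (CohB1.thickToBase j J (n + 1)) := MorphismProperty.pullback_snd _ _ inferInstance
  rw [hker]
  refine subsingleton_HH_ker _ (𝔞.map (Ideal.Quotient.mk (J ^ (n + 2)))) (CohB1.thickToBase j J (n + 1)) ?_ 2
    one_le_two (subsingleton_H_factor_ker 𝔞 hnzd n h₃)
  rw [← puncturedOpen_preimage]
  refine Opens.ext ?_
  show Set.range (pullback.snd j (CohB1.specQuot J (n + 1))) = _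
  rw [Scheme.Pullback.range_snd, Scheme.Opens.range_ι]
  rfl

/-- The extension to a neighbourhood, as a coherent module on the punctured spectrum. -/
theorem exists_extension (𝔞 : Ideal A) (f : A) [IsAdicComplete (Ideal.span {f}) A]
    (hnzd : f ∈ nonZeroDivisors A)
    (h₁ : Module.Finite A (LocCoh.H 𝔞 1 (A ⧸ Ideal.span {f})))
    (h₂ : Module.Finite A (LocCoh.H 𝔞 2 (A ⧸ Ideal.span {f})))
    (h₃ : Subsingleton (LocCoh.H 𝔞 3 (A ⧸ Ideal.span {f})))
    (U : (Spec (CommRingCat.of A)).Opens) (hU : U = LocCoh.puncturedOpen A 𝔞)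
    (L₀ : (↑(Formal2.specQuotMap A f ⁻¹ᵁ U) : Scheme.{u}).Modules) (hL₀ : PicF.IsInvertible L₀) :
    ∃ M : (U : Scheme.{u}).Modules, Coh.IsCoh M ∧
      (∀ x : U, f ∈ (U.ι x).asIdeal →
        ∃ (W : (U : Scheme.{u}).Opens) (v : Fin 1 → Γ(M, W)), x ∈ W ∧ ProjFormLib.IsFrame M v) ∧
      Nonempty ((Scheme.Modules.pullback (Formal2.specQuotMap A f ∣_ U)).obj M ≅ L₀) := by
  subst hU
  let J := Ideal.span {f}
  let U := LocCoh.puncturedOpen A 𝔞
  let j := U.ι
  let g := Formal2.specQuotMap A f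
  let q : Spec (CommRingCat.of (A ⧸ J ^ (0 + 1))) ≅ Spec (CommRingCat.of (A ⧸ J)) :=
    Scheme.Spec.mapIso ((Ideal.quotEquivOfEq (show J = J ^ (0 + 1) by rw [zero_add, pow_one])).toCommRingCatIso).op
  have hq : q.hom ≫ g = CohB1.specQuot J 0 := by
    show Spec.map _ ≫ Spec.map _ = _
    rw [← Spec.map_comp]
    rfl
  have hp : IsPullback (g ∣_ U) ((g ⁻¹ᵁ U).ι ≫ q.inv) j (CohB1.specQuot J 0) :=
    (isPullback_morphismRestrict g U).of_iso (Iso.refl _) (Iso.refl _) q.symm (Iso.refl _)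
      (by simp) (by simp) (by simp [j]) (by simp [← hq, g])
  let e0 := hp.isoPullback
  have he0 : e0.hom ≫ CohB1.thickι j J 0 = g ∣_ U := hp.isoPullback_hom_fst
  let L0 : (CohB1.thick j J 0).Modules := KFlatLib.pb e0.inv L₀
  have hL0 : PicF.IsInvertible L0 := AmpleDevLib.isInvertible_pb _ hL₀
  have hstep : ∀ n (N : {N : (CohB1.thick j J n).Modules // PicF.IsInvertible N}),
      ∃ N' : {N : (CohB1.thick j J (n + 1)).Modules // PicF.IsInvertible N},
        Nonempty (KFlatLib.pb (CohB1.thickTrans j J n) N'.1 ≅ N.1) := fun n N => by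
    obtain ⟨hc, hsq⟩ := Groth.Agent.S12637.thickTrans_step J j n
    haveI := hc
    obtain ⟨L, hL, e⟩ := PicH1Lib.exists_pullback_iso _ hsq (subsingleton_HH_thickTrans 𝔞 hnzd n h₃) N.2
    exact ⟨⟨L, hL⟩, e⟩
  choose next hnext using hstep
  let Ls : ∀ n, {N : (CohB1.thick j J n).Modules // PicF.IsInvertible N} := fun n =>
    Nat.rec (motive := fun n => {N : (CohB1.thick j J n).Modules // PicF.IsInvertible N}) ⟨L0, hL0⟩ next n
  let L := fun n => (Ls n).1
  let ψ : ∀ n, (Scheme.Modules.pullback (CohB1.thickTrans j J n)).obj (L (n + 1)) ≅ L n := fun n =>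
    (hnext n (Ls n)).some
  have hG := isCohFormal_sys J j L ψ fun n => (Ls n).2
  have hfree : ∀ n : ℕ, Formal2.IsFinLocFreeMod J (n + 1) ((sys J j L ψ).obj (op n)) := fun n =>
    isFinLocFreeMod_push (CohB1.thickι j J n) (ι_over J j n) J (n + 1) (fun b hb => toGlobal_eq_zero J j n hb)
      (ker_incl_le J j n) (Ls n).2
  obtain ⟨M, hM, ⟨φ⟩⟩ := Formal2AlgzLib.exists_completion_iso hG hfree hnzd h₁ h₂
  haveI := hM.1
  have e : ∀ n, Nonempty ((Scheme.Modules.pullback (CohB1.thickι j J n)).obj M ≅ L n) :=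
    fun n => nonempty_pullback_iso J j L ψ φ n
  refine ⟨M, hM, fun x hx => ?_, ?_⟩
  · let X : Scheme.{u} := U
    have hJx : J ≤ (j x).asIdeal := (Ideal.span_singleton_le_iff_mem _).2 hx
    let gg := (X.presheaf.germ ⊤ x trivial).hom.comp (Coh.toGlobal (X ↘ Spec (CommRingCat.of A)))
    have hd : ∀ n, ∃ (S : Type u) (_ : CommRing S) (_ : Algebra (X.presheaf.stalk x) S),
        Nontrivial S ∧ Function.Surjective (algebraMap (X.presheaf.stalk x) S) ∧
          RingHom.ker (algebraMap (X.presheaf.stalk x) S) = (J ^ (n + 1)).map gg ∧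
          Nonempty (TensorProduct (X.presheaf.stalk x) S ((DerSch.stalkFunctor X x).obj M) ≃ₗ[S] S) := fun n => by
      obtain ⟨z, hz⟩ := mem_range_incl J j n x hJx
      exact PicAlgzLib.exists_stalk_data (CohB1.thickι j J n) (ι_over J j n) _
        (fun b hb => toGlobal_eq_zero J j n hb) (ker_incl_le J j n) (Ls n).2 (e n).some x z hz
    choose S hS₁ hS₂ hnt hsurj hker hiso using hd
    haveI : Module.Finite (X.presheaf.stalk x) ((DerSch.stalkFunctor X x).obj M) :=
      DepthLib.finite_stalk M hM.2 x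
    have hI : J.map gg ≠ ⊤ := by
      have h := hker 0
      rw [zero_add, pow_one] at h
      rw [← h]
      haveI := hnt 0
      exact RingHom.ker_ne_top _
    obtain ⟨v, hv⟩ := PicAlgzLib.exists_bijective_smul (N := (DerSch.stalkFunctor X x).obj M) (J.map gg) hI S
      (fun n => by rw [hker n, Ideal.map_pow]) (hsurj 0) fun n => (hiso n).some
    exact PicAlgzLib.exists_frame_of_stalk hM x (LinearEquiv.ofBijective (LinearMap.toSpanSingleton _ _ v) hv)
  · obtain ⟨a⟩ := e 0
    exact ⟨(Scheme.Modules.pullbackCongr he0.symm).app M ≪≫ ((Scheme.Modules.pullbackComp _ _).app M).symm ≪≫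
      (Scheme.Modules.pullback e0.hom).mapIso a ≪≫ (Scheme.Modules.pullbackComp _ _).app L₀ ≪≫
      (Scheme.Modules.pullbackCongr e0.hom_inv_id).app L₀ ≪≫ (Scheme.Modules.pullbackId _).app L₀⟩

end PicLiftLib

end
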